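import Groth.Agent.Abvar.Image
import Groth.Agent.AlgGrp1.Sub
import Groth.Agent.AlgGrp1.Points
import Mathlib.AlgebraicGeometry.Group.Abelian

/-!
# Products and images of abelian varieties, and the maximal abelian subvariety of a group scheme
-/

set_option autoImplicit false
universe u

open CategoryTheory Limits MonoidalCategory CartesianMonoidalCategory MonObj GrpObj AlgebraicGeometry
  TopologicalSpace

namespace Groth.AbvarAlb

variable {k : Type u} [Field k]

theorem geometricallyIntegral_of_connected (A : Over (Spec (CommRingCat.of k))) [GrpObj A]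
    [LocallyOfFiniteType A.hom] [QuasiCompact A.hom] [GeometricallyReduced A.hom] [ConnectedSpace A.left] :
    GeometricallyIntegral A.hom := by
  have := AlgGrp1.geometricallyIrreducible_of_connected A
  exact GeometricallyIntegral.of_geometricallyReduced_of_geometricallyIrreducible A.hom

theorem isProper_tensor (X Y : Over (Spec (CommRingCat.of k))) [IsProper X.hom] [IsProper Y.hom] :
    IsProper (X ⊗ Y).hom :=
  inferInstanceAs (IsProper (pullback.fst X.hom Y.hom ≫ X.hom))

theorem geometricallyIntegral_tensor (X Y : Over (Spec (CommRingCat.of k)))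
    [GeometricallyIntegral X.hom] [LocallyOfFiniteType X.hom] [GeometricallyIntegral Y.hom]
    [LocallyOfFiniteType Y.hom] : GeometricallyIntegral (X ⊗ Y).hom := by
  have := AlgGrp1.geometricallyReduced_tensorObj X Y
  have : GeometricallyIrreducible (X ⊗ Y).hom :=
    GeometricallyIrreducible.comp (pullback.fst X.hom Y.hom) X.hom
  exact GeometricallyIntegral.of_geometricallyReduced_of_geometricallyIrreducible _

/-- The image of a homomorphism from an abelian variety into any group scheme. -/
theorem exists_image_of_proper {X Y : Over (Spec (CommRingCat.of k))} [GrpObj X] [GrpObj Y]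
    [IsProper X.hom] [GeometricallyIntegral X.hom] [LocallyOfFiniteType Y.hom] (f : X ⟶ Y) [IsMonHom f] :
    ∃ (I : Over (Spec (CommRingCat.of k))) (_ : GrpObj I) (i : I ⟶ Y) (g : X ⟶ I),
      IsMonHom i ∧ IsMonHom g ∧ IsClosedImmersion i.left ∧ Surjective g.left ∧ g ≫ i = f ∧
      IsProper I.hom ∧ GeometricallyIntegral I.hom := by
  have := AlgGrp1.isSeparated_grpObj Y
  have hint := Abvar.isIntegral_left X
  have : IsProper (f.left ≫ Y.hom) := by rw [Over.w]; infer_instance
  have : IsProper f.left := IsProper.of_comp f.left Y.hom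
  let I : Over (Spec (CommRingCat.of k)) := Over.mk (f.left.imageι ≫ Y.hom)
  let i : I ⟶ Y := Over.homMk f.left.imageι rfl
  let g : X ⟶ I := Over.homMk f.left.toImage (by
    show f.left.toImage ≫ f.left.imageι ≫ Y.hom = X.hom
    rw [Scheme.Hom.toImage_imageι_assoc, Over.w])
  have hgi : g ≫ i = f := by ext; exact Scheme.Hom.toImage_imageι f.left
  have : IsClosedImmersion i.left := inferInstanceAs (IsClosedImmersion f.left.imageι)
  have : IsSchemeTheoreticallyDominant g.left :=
    Groth.Flatmor4.isSchemeTheoreticallyDominant_toImage f.left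
  have : QuasiCompact g.left := inferInstanceAs (QuasiCompact f.left.toImage)
  obtain ⟨inst, hi, hg⟩ := Groth.Agf.exists_grpObj_image f i g hgi
  have hsurj : Surjective g.left := Groth.Agf.surjective_of_dominant g
  have : LocallyOfFiniteType I.hom := inferInstanceAs (LocallyOfFiniteType (f.left.imageι ≫ Y.hom))
  have : IsSeparated I.hom := inferInstanceAs (IsSeparated (f.left.imageι ≫ Y.hom))
  have : UniversallyClosed (g.left ≫ I.hom) := by rw [Over.w]; infer_instance
  have : UniversallyClosed I.hom := UniversallyClosed.of_comp_surjective g.left I.hom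
  have : QuasiCompact I.hom := inferInstance
  have hP : IsProper I.hom := ⟨⟩
  have : GeometricallyReduced (g.left ≫ I.hom) := by rw [Over.w]; infer_instance
  have := Groth.Agf.geometricallyReduced_of_dominant g.left I.hom
  have : ConnectedSpace I.left := hsurj.surj.connectedSpace g.left.continuous
  exact ⟨I, inst, i, g, hi, hg, ‹_›, hsurj, hgi, hP, geometricallyIntegral_of_connected I⟩

/-- An abelian subvariety of `G`: a closed subgroup scheme which is an abelian variety. -/
structure AbSub (G : Over (Spec (CommRingCat.of k))) [GrpObj G] where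
  M : Over (Spec (CommRingCat.of k))
  grp : GrpObj M
  i : M ⟶ G
  isMonHom : IsMonHom i
  closed : IsClosedImmersion i.left
  proper : IsProper M.hom
  geomInt : GeometricallyIntegral M.hom

variable {G : Over (Spec (CommRingCat.of k))} [GrpObj G] [LocallyOfFiniteType G.hom]

/-- The generic point of an abelian subvariety. -/
noncomputable def AbSub.gen (S : AbSub G) : G.left :=
  haveI := S.geomInt
  haveI := Abvar.isIntegral_left S.M
  S.i.left (genericPoint S.M.left)

omit [LocallyOfFiniteType G.hom] in
theorem AbSub.closure_gen (S : AbSub G) : closure {S.gen} = Set.range S.i.left := by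
  have := S.geomInt
  have := Abvar.isIntegral_left S.M
  have := S.closed
  have h := (genericPoint_spec S.M.left).image S.i.left.continuous
  rw [Set.image_univ, S.i.left.isClosedEmbedding.isClosed_range.closure_eq] at h
  exact h

omit [LocallyOfFiniteType G.hom] in
theorem exists_absub : Nonempty (AbSub G) := by
  let U := 𝟙_ (Over (Spec (CommRingCat.of k)))
  have : IsProper U.hom := inferInstanceAs (IsProper (𝟙 _))
  have : GeometricallyIntegral U.hom := ⟨fun K _ y P p q sq => by
    have : IsIso q := MorphismProperty.of_isPullback (P := MorphismProperty.isomorphisms Scheme) sq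
      (inferInstanceAs (IsIso (𝟙 (Spec (CommRingCat.of k)))))
    have : Nonempty P := ⟨(inv q) (Classical.arbitrary _)⟩
    exact isIntegral_of_isOpenImmersion q⟩
  have := AlgGrp1.isSeparated_grpObj G
  have : IsClosedImmersion (η[G] : U ⟶ G).left := by
    have : IsClosedImmersion ((η[G] : U ⟶ G).left ≫ G.hom) := by
      rw [Over.w]; exact inferInstanceAs (IsClosedImmersion (𝟙 _))
    exact IsClosedImmersion.of_comp _ G.hom
  exact ⟨⟨U, inferInstance, η[G], inferInstance, this, inferInstance, inferInstance⟩⟩

theorem AbSub.coheight_gen_lt_top (S : AbSub G) : Order.coheight S.gen < ⊤ := by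
  have := AlgGrp1.isLocallyNoetherian_left G
  have h := ringKrullDim_stalk_eq_coheight S.gen
  have hfin := ringKrullDim_lt_top (R := G.left.presheaf.stalk S.gen)
  rw [h] at hfin
  exact WithBot.coe_lt_coe.mp hfin

/-- There is an abelian subvariety through which every homomorphism from an abelian variety
factors. -/
theorem exists_maximal : ∃ S : AbSub G, ∀ (A : Over (Spec (CommRingCat.of k))) [GrpObj A]
    [IsProper A.hom] [GeometricallyIntegral A.hom] (φ : A ⟶ G) [IsMonHom φ],
    Set.range φ.left ⊆ Set.range S.i.left := by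
  obtain ⟨S, hS⟩ : ∃ S : AbSub G, ∀ S' : AbSub G, Order.coheight S.gen ≤ Order.coheight S'.gen := by
    let S₀ := (exists_absub (G := G)).some
    obtain ⟨n, ⟨S, rfl⟩, hn⟩ := wellFounded_lt.has_min (Set.range fun S : AbSub G => Order.coheight S.gen)
      ⟨_, S₀, rfl⟩
    exact ⟨S, fun S' => le_of_not_gt (hn _ ⟨S', rfl⟩)⟩
  refine ⟨S, fun A _ _ _ φ _ => ?_⟩
  obtain ⟨M, _, i, _, _, _, _⟩ := S
  have := isProper_tensor M A
  have := geometricallyIntegral_tensor M A
  let ψ : M ⊗ A ⟶ G := (fst M A ≫ i) * (snd M A ≫ φ)
  have hψ : IsMonHom ψ := Abvar.isMonHom_of_one ψ (by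
    simp [ψ, MonObj.comp_mul, Hom.one_def])
  obtain ⟨I, _, j, g, _, _, _, _, hgj, _, _⟩ := exists_image_of_proper ψ
  let S' : AbSub G := ⟨I, inferInstance, j, inferInstance, inferInstance, inferInstance, inferInstance⟩
  let S : AbSub G := ⟨M, inferInstance, i, inferInstance, inferInstance, inferInstance, inferInstance⟩
  have h1 : Set.range i.left ⊆ Set.range j.left := by
    have e : i = (lift (𝟙 M) 1 ≫ g) ≫ j := by
      rw [Category.assoc, hgj]
      simp [ψ, MonObj.comp_mul, MonObj.one_comp]
    rw [e]
    rintro _ ⟨x, rfl⟩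
    exact ⟨_, rfl⟩
  have h2 : Set.range φ.left ⊆ Set.range j.left := by
    have e : φ = (lift 1 (𝟙 A) ≫ g) ≫ j := by
      rw [Category.assoc, hgj]
      simp [ψ, MonObj.comp_mul, MonObj.one_comp]
    rw [e]
    rintro _ ⟨x, rfl⟩
    exact ⟨_, rfl⟩
  refine h2.trans ?_
  -- the two generic points agree
  have hsp : S'.gen ⤳ S.gen := by
    rw [specializes_iff_mem_closure, S'.closure_gen]
    exact h1 (S.closure_gen ▸ subset_closure rfl)
  have hsp' : S.gen ⤳ S'.gen := by
    by_contra hne
    have hlt : S.gen < S'.gen := lt_of_le_not_ge hsp hne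
    exact not_le.mpr (Order.coheight_strictAnti hlt S'.coheight_gen_lt_top) (hS S')
  rw [specializes_iff_mem_closure] at hsp'
  rw [← S'.closure_gen]
  refine (closure_minimal (Set.singleton_subset_iff.2 hsp') isClosed_closure).trans ?_
  rw [S.closure_gen]

end Groth.AbvarAlb
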