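import Groth.Agent.AbvarAlb.PrimaryDescent
import Groth.Agent.AbvarAlb.MaxAbelian
import Groth.Agent.AlgGrpAb.Basic
import Groth.Agent.AbVarMul.Isogeny
import Groth.Agent.GrpschAbsch.BcPoint
import Groth.Agent.Reductive.SubgroupObj

/-!
# Finite subgroups of primary base changes of abelian varieties, up to radicial subgroups
-/

set_option autoImplicit false
universe u

open CategoryTheory Limits MonoidalCategory CartesianMonoidalCategory MonObj GrpObj AlgebraicGeometry

namespace Groth.AbvarAlb

variable {k K : Type u} [Field k] [Field K] [Algebra k K]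

/-- A finite scheme over a field is discrete. -/
theorem discreteTopology_of_isFinite {K : Type u} [Field K] {Z : Scheme.{u}}
    (g : Z ⟶ Spec (CommRingCat.of K)) [IsFinite g] : DiscreteTopology Z := by
  haveI : IsLocallyArtinian (Spec (CommRingCat.of K)) :=
    IsLocallyArtinian.iff_isLocallyNoetherian_and_discreteTopology.mpr ⟨inferInstance, inferInstance⟩
  haveI : IsLocallyArtinian Z := .of_locallyQuasiFinite g
  exact (IsLocallyArtinian.iff_isLocallyNoetherian_and_discreteTopology.mp ‹_›).2

/-- The projection of a geometrically irreducible base change is injective over a finite scheme. -/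
theorem injective_fst_of_finite' [GeometricallyIrreducible (AbVar.ext k K)] {P : Scheme.{u}}
    (a : P ⟶ Spec (CommRingCat.of k)) [IsFinite a] :
    Function.Injective (pullback.fst a (AbVar.ext k K)) := by
  intro x y hxy
  let g := pullback.fst a (AbVar.ext k K)
  have : IsFinite (pullback.snd a (AbVar.ext k K)) := inferInstance
  have : DiscreteTopology ↥(pullback a (AbVar.ext k K)) :=
    discreteTopology_of_isFinite (pullback.snd a (AbVar.ext k K))
  have hirr : IrreducibleSpace ↥(g ⁻¹' {g x}) :=
    (g.fiberHomeo (g x)).irreducibleSpace_iff.mp inferInstance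
  obtain ⟨w, hw⟩ := isIrreducible_iff_singleton.mp (isIrreducible_iff_irreducibleSpace.mpr hirr)
  have h1 : x ∈ g ⁻¹' {g x} := rfl
  have h2 : y ∈ g ⁻¹' {g x} := hxy.symm
  rw [hw] at h1 h2
  exact h1.trans h2.symm

/-- The projection of a primary base change is injective over a finite scheme. -/
theorem injective_fst_of_finite (hprim : AbVar.IsPrimaryExt k K) {P : Scheme.{u}}
    (a : P ⟶ Spec (CommRingCat.of k)) [IsFinite a] :
    Function.Injective (pullback.fst a (AbVar.ext k K)) := by
  have : GeometricallyIrreducible (AbVar.ext k K) :=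
    Groth.FlatmorThree.geometricallyIrreducible_specMap_of_sepClosedIn k K
      fun x hx => RingHom.mem_range.mp (hprim x hx)
  exact injective_fst_of_finite' a

/-- The quotient of an abelian variety by a closed subgroup is an abelian variety. -/
theorem exists_quotient {B G : Over (Spec (CommRingCat.of k))} [GrpObj B] [IsProper B.hom]
    [GeometricallyIntegral B.hom] [GrpObj G] (g : G ⟶ B) [IsMonHom g] [IsClosedImmersion g.left] :
    ∃ (Q : Over (Spec (CommRingCat.of k))) (_ : GrpObj Q) (q : B ⟶ Q), IsProper Q.hom ∧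
      GeometricallyIntegral Q.hom ∧ IsMonHom q ∧ Flat q.left ∧ Surjective q.left ∧
      AlgGrp.IsKernel g q := by
  have := GrpschAbsch.isCommMonObj_of_isProper B
  obtain ⟨Q, _, q, _, _, ⟨_, _, _⟩, _, _, hq⟩ := AlgGrpAb.exists_cokernel g
  have := AlgGrp1.isSeparated_grpObj Q
  have : IsProper (q.left ≫ Q.hom) := by rw [Over.w]; infer_instance
  have : IsProper q.left := IsProper.of_comp q.left Q.hom
  have : UniversallyClosed Q.hom := UniversallyClosed.of_comp_surjective q.left Q.hom
  have hQp : IsProper Q.hom := ⟨⟩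
  have := AlgGrp1.geometricallyReduced_of_flat_surjective q
  have hint := Abvar.isIntegral_left B
  have : ConnectedSpace Q.left := q.left.surjective.connectedSpace q.left.continuous
  exact ⟨Q, inferInstance, q, hQp, geometricallyIntegral_of_connected Q, inferInstance, inferInstance,
    inferInstance, hq⟩

/-- A finite subgroup killed by `n` of a primary base change is contained in the base change of a
closed subgroup with the same field-valued points; stated through the quotient. -/
theorem exists_radicial_quotient (hprim : AbVar.IsPrimaryExt k K)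
    {B : Over (Spec (CommRingCat.of k))} [GrpObj B] [IsProper B.hom] [GeometricallyIntegral B.hom]
    {A : Over (Spec (CommRingCat.of K))} [GrpObj A] [IsProper A.hom]
    (β : Red.bc (AbVar.ext k K) B ⟶ A) [IsMonHom β] {n : ℕ} (hn : n ≠ 0)
    (hkill : ∀ (T : Over (Spec (CommRingCat.of K))) (t : T ⟶ Red.bc (AbVar.ext k K) B),
      t ≫ β = 1 → t ^ n = 1) :
    ∃ (B'' : Over (Spec (CommRingCat.of k))) (_ : GrpObj B'') (π : B ⟶ B''), IsProper B''.hom ∧
      GeometricallyIntegral B''.hom ∧ IsMonHom π ∧
      (∀ (T : Over (Spec (CommRingCat.of K))) (t : T ⟶ Red.bc (AbVar.ext k K) B),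
        t ≫ β = 1 → t ≫ (Over.pullback (AbVar.ext k K)).map π = 1) ∧
      ∀ (T : Over (Spec (CommRingCat.of K))) [IsReduced T.left] (t : T ⟶ Red.bc (AbVar.ext k K) B),
        t ≫ (Over.pullback (AbVar.ext k K)).map π = 1 → t ≫ β = 1 := by
  have := GrpschAbsch.isCommMonObj_of_isProper B
  let f := AbVar.ext k K
  let B' := Red.bc f B
  have : IsProper B'.hom := by dsimp [B']; infer_instance
  have : GeometricallyIntegral B'.hom := by dsimp [B']; infer_instance
  have := GrpschAbsch.isCommMonObj_of_isProper B'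
  have : IsMonHom (𝟙 B ^ n : B ⟶ B) := by rw [← zpow_natCast]; infer_instance
  obtain ⟨P, _, j, _, _, _, hP⟩ := AlgGrpAb.exists_kernel (𝟙 B ^ n : B ⟶ B)
  have : Mono j := Over.mono_of_mono_left j
  have hPfin : IsFinite P.hom := by
    have : IsFinite (𝟙 B ^ n : B ⟶ B).left := by
      rw [← zpow_natCast]
      exact (AbVarMul.isogeny_zpow (A := B) (d := (n : ℤ)) (by exact_mod_cast hn)).1
    exact MorphismProperty.of_isPullback (P := @IsFinite) (hP.map (Over.forget _)) this
  have : DiscreteTopology P.left := discreteTopology_of_isFinite P.hom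
  obtain ⟨H, _, h, _, _, _, hH⟩ := AlgGrpAb.exists_kernel β
  have : Mono h := Over.mono_of_mono_left h
  obtain ⟨m, hm⟩ := AlgGrp1.IsKernel.exists_lift hP (GrpschAbsch.bcPt f (G := B) h) (by
    rw [MonObj.comp_pow, Category.comp_id, ← GrpschAbsch.bcPt_pow,
      hkill H h (AlgGrp1.IsKernel.comp_eq_one hH), GrpschAbsch.bcPt_one])
  let S : Set P.left := Set.range m.left
  have hkey : ∀ (T : Over (Spec (CommRingCat.of K))) [IsReduced T.left] (t : T ⟶ B')
      (v : Over.mk (T.hom ≫ f) ⟶ P), v ≫ j = GrpschAbsch.bcPt f t →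
      (Set.range v.left ⊆ S ↔ t ≫ β = 1) := by
    intro T _ t v hv
    constructor
    · intro hr
      obtain ⟨u, rfl⟩ := Groth.AlgGrp1.exists_factor_of_range_subset h t (by
        rintro _ ⟨x, rfl⟩
        obtain ⟨h₀, hh₀⟩ := hr ⟨x, rfl⟩
        refine ⟨h₀, ?_⟩
        -- both points lie over the same point of `P`
        let hP' : P.left ⟶ B.left := j.left
        let e : pullback P.hom f ⟶ B'.left :=
          pullback.map P.hom f B.hom f j.left (𝟙 _) (𝟙 _)
            ((Category.comp_id _).trans (Over.w j).symm) rfl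
        let p₁ : H.left ⟶ pullback P.hom f := pullback.lift m.left H.hom (Over.w m)
        let p₂ : T.left ⟶ pullback P.hom f := pullback.lift v.left T.hom (Over.w v)
        have e1 : p₁ ≫ e = h.left := by
          refine pullback.hom_ext ?_ ?_
          · rw [Category.assoc, pullback.lift_fst, pullback.lift_fst_assoc]
            exact congrArg Over.Hom.left hm
          · rw [Category.assoc, pullback.lift_snd, pullback.lift_snd_assoc, Category.comp_id]
            exact (Over.w h).symm
        have e2 : p₂ ≫ e = t.left := by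
          refine pullback.hom_ext ?_ ?_
          · rw [Category.assoc, pullback.lift_fst, pullback.lift_fst_assoc]
            exact congrArg Over.Hom.left hv
          · rw [Category.assoc, pullback.lift_snd, pullback.lift_snd_assoc, Category.comp_id]
            exact (Over.w t).symm
        have : p₁ h₀ = p₂ x := injective_fst_of_finite hprim P.hom (by
          rw [← Scheme.Hom.comp_apply, ← Scheme.Hom.comp_apply, pullback.lift_fst, pullback.lift_fst]
          exact hh₀)
        rw [← e1, ← e2, Scheme.Hom.comp_apply, Scheme.Hom.comp_apply, this])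
      rw [Category.assoc, AlgGrp1.IsKernel.comp_eq_one hH, MonObj.comp_one]
    · intro ht
      obtain ⟨u, rfl⟩ := AlgGrp1.IsKernel.exists_lift hH t ht
      have : v.left = u.left ≫ m.left := by
        have : Mono j.left := inferInstance
        rw [← cancel_mono j.left, Category.assoc, ← Over.comp_left, hv]
        show (u.left ≫ h.left) ≫ pullback.fst B.hom f = _
        rw [Category.assoc]
        congr 1
        exact (congrArg Over.Hom.left hm).symm
      rw [this]
      rintro _ ⟨x, rfl⟩
      exact ⟨u.left x, rfl⟩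
  let U : P.left.Opens := ⟨S, isOpen_discrete S⟩
  let G : Over (Spec (CommRingCat.of k)) := Over.mk (U.ι ≫ P.hom)
  let g : G ⟶ P := Over.homMk U.ι rfl
  have : IsClosedImmersion g.left := IsClosedImmersion.of_isPreimmersion U.ι (by
    rw [Scheme.Opens.range_ι]; exact isClosed_discrete S)
  have : Mono g := Over.mono_of_mono_left g
  have hlift : ∀ {T : Over (Spec (CommRingCat.of k))} (v : T ⟶ P), Set.range v.left ⊆ S →
      ∃ w : T ⟶ G, w ≫ g = v := fun {T} v hv => by
    have hv' : Set.range v.left ⊆ Set.range U.ι := by rw [Scheme.Opens.range_ι]; exact hv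
    exact ⟨Over.homMk (IsOpenImmersion.lift U.ι v.left hv') (by
      show IsOpenImmersion.lift U.ι v.left hv' ≫ U.ι ≫ P.hom = _
      rw [IsOpenImmersion.lift_fac_assoc, Over.w]), Over.OverMorphism.ext (IsOpenImmersion.lift_fac _ _ _)⟩
  have hgS : ∀ {T : Over (Spec (CommRingCat.of k))} (w : T ⟶ G), Set.range (w ≫ g).left ⊆ S := fun {T} w => by
    rintro _ ⟨x, rfl⟩
    exact (w.left x).2
  have hrange : ∀ {T : Over (Spec (CommRingCat.of k))} (v : T ⟶ P),
      (∀ (L : Over (Spec (CommRingCat.of K))), IsReduced L.left →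
        ∀ e : Over.mk (L.hom ≫ f) ⟶ T, Set.range (e ≫ v).left ⊆ S) → Set.range v.left ⊆ S := by
    intro T v hv
    rintro _ ⟨x, rfl⟩
    have : Surjective f := ⟨fun q => ⟨IsLocalRing.closedPoint K, Subsingleton.elim _ _⟩⟩
    obtain ⟨z, hz⟩ := (pullback.fst T.hom f).surjective x
    let L : Over (Spec (CommRingCat.of K)) :=
      Over.mk ((pullback T.hom f).fromSpecResidueField z ≫ pullback.snd T.hom f)
    let e : Over.mk (L.hom ≫ f) ⟶ T :=
      Over.homMk ((pullback T.hom f).fromSpecResidueField z ≫ pullback.fst T.hom f) (by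
        rw [Category.assoc, pullback.condition]; exact (Category.assoc _ _ _).symm)
    refine hv L (inferInstanceAs (IsReduced (Spec _))) e ⟨IsLocalRing.closedPoint _, ?_⟩
    show v.left ((pullback.fst T.hom f) ((pullback T.hom f).fromSpecResidueField z _)) = v.left x
    rw [Scheme.fromSpecResidueField_apply, hz]
  -- field points of `B'` with values in `G`
  have hpt : ∀ (L : Over (Spec (CommRingCat.of K))) [IsReduced L.left] (v : Over.mk (L.hom ≫ f) ⟶ P),
      ∃ t : L ⟶ B', GrpschAbsch.bcPt f t = v ≫ j ∧ (Set.range v.left ⊆ S ↔ t ≫ β = 1) := by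
    intro L _ v
    obtain ⟨t, ht⟩ := GrpschAbsch.bcPt_exists f (G := B) (v ≫ j)
    exact ⟨t, ht, hkey L t v ht.symm⟩
  obtain ⟨instG, hg⟩ : ∃ _ : GrpObj G, IsMonHom g := by
    refine Groth.Reductive.exists_grpObj_of_mono g (hlift 1 (hrange _ fun L hL e => ?_))
      (hlift _ (hrange _ fun L hL e => ?_)) (hlift _ (hrange _ fun L hL e => ?_))
    · obtain ⟨t, ht, hiff⟩ := hpt L (e ≫ 1)
      refine hiff.2 ?_
      have : t = 1 := GrpschAbsch.bcPt_injective f (by
        rw [ht, GrpschAbsch.bcPt_one, MonObj.comp_one, MonObj.one_comp])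
      rw [this, MonObj.one_comp]
    · obtain ⟨t, ht, hiff⟩ := hpt L (e ≫ ((fst G G ≫ g) * (snd G G ≫ g)))
      obtain ⟨a, ha, hia⟩ := hpt L ((e ≫ fst G G) ≫ g)
      obtain ⟨b, hb, hib⟩ := hpt L ((e ≫ snd G G) ≫ g)
      refine hiff.2 ?_
      have : t = a * b := GrpschAbsch.bcPt_injective f (by
        refine ht.trans (Eq.trans ?_ (GrpschAbsch.bcPt_mul f a b).symm)
        simp only [ha, hb, MonObj.comp_mul, MonObj.mul_comp, Category.assoc])
      rw [this, MonObj.mul_comp, hia.1 (hgS _), hib.1 (hgS _), _root_.one_mul]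
    · obtain ⟨t, ht, hiff⟩ := hpt L (e ≫ g⁻¹)
      obtain ⟨a, ha, hia⟩ := hpt L (e ≫ g)
      refine hiff.2 ?_
      have : t = a⁻¹ := eq_inv_of_mul_eq_one_left (GrpschAbsch.bcPt_injective f (by
        rw [GrpschAbsch.bcPt_mul, ht, ha, GrpObj.comp_inv, GrpObj.inv_comp, inv_mul_cancel,
          GrpschAbsch.bcPt_one]))
      rw [this, GrpObj.inv_comp, hia.1 (hgS _), inv_one]
  let gj : G ⟶ B := g ≫ j
  have : IsClosedImmersion gj.left := inferInstanceAs (IsClosedImmersion (g.left ≫ j.left))
  obtain ⟨B'', _, π, _, _, _, _, _, hπ⟩ := exists_quotient gj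
  refine ⟨B'', inferInstance, π, inferInstance, inferInstance, inferInstance, ?_, ?_⟩
  · intro T t ht
    obtain ⟨u, rfl⟩ := AlgGrp1.IsKernel.exists_lift hH t ht
    let u' : Over.mk (T.hom ≫ f) ⟶ Over.mk (H.hom ≫ f) := Over.homMk u.left (by
      show u.left ≫ H.hom ≫ f = _
      rw [← Category.assoc, Over.w]
      rfl)
    obtain ⟨w, hw⟩ := hlift (u' ≫ m) (by rintro _ ⟨x, rfl⟩; exact ⟨u.left x, rfl⟩)
    refine GrpschAbsch.bcPt_injective f ?_
    rw [GrpschAbsch.bcPt_comp_map, GrpschAbsch.bcPt_one]
    have : GrpschAbsch.bcPt f (G := B) (u ≫ h) = w ≫ gj := by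
      show _ = w ≫ g ≫ j
      rw [← Category.assoc, hw, Category.assoc, hm]
      exact Over.OverMorphism.ext (Category.assoc _ _ _)
    rw [this, Category.assoc, AlgGrp1.IsKernel.comp_eq_one hπ, MonObj.comp_one]
  · intro T _ t ht
    have h1 : GrpschAbsch.bcPt f t ≫ π = 1 := by
      rw [← GrpschAbsch.bcPt_comp_map, ht, GrpschAbsch.bcPt_one]
    obtain ⟨w, hw⟩ := AlgGrp1.IsKernel.exists_lift hπ _ h1
    exact (hkey T t (w ≫ g) ((Category.assoc _ _ _).trans hw)).1 (hgS w)

end Groth.AbvarAlb
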