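import Groth.Agent.AbvarAlb.SteinHom
import Groth.Agent.AbvarAmple.PhiSurjCor
import Groth.Agent.AbvarAmple.KerFinite
import Groth.Agent.Abvar.Dual.TrivLocus
import Groth.Agent.ThetaAlg.GluePt
import Groth.Agent.AbVarMul.Ample
import Groth.Agent.AbVarMul.Relative

/-!
# Poincaré reducibility for abelian varieties over a field
-/

set_option autoImplicit false
universe u
open CategoryTheory MonoidalCategory CartesianMonoidalCategory MonObj GrpObj AlgebraicGeometry

namespace Groth.AbvarAlb.Poincare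

open Groth Groth.Abvar.PicCalc Groth.AbVarMul

variable {k : Type u} [Field k] {A B : Over (Spec (CommRingCat.of k))} [GrpObj A] [IsProper A.hom]
  [GeometricallyIntegral A.hom] [GrpObj B] [IsProper B.hom] [GeometricallyIntegral B.hom]

/-- `c` is additive along the subgroup `B` in the direction of the point `z`. -/
def AddAlong (i : B ⟶ A) (c : PicLoc.PicSet A.left) {T : Over (Spec (CommRingCat.of k))} (z : T ⟶ A) : Prop :=
  opull ((fst B T ≫ i) * (snd B T ≫ z)) c = opull (fst B T ≫ i) c * opull (snd B T ≫ z) c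

variable (i : B ⟶ A) (c : PicLoc.PicSet A.left)

theorem addAlong_one (T : Over (Spec (CommRingCat.of k))) : AddAlong i c (1 : T ⟶ A) := by
  rw [AddAlong, MonObj.comp_one, _root_.mul_one, opull_one, _root_.mul_one]

theorem addAlong_mul {T : Over (Spec (CommRingCat.of k))} {u v : T ⟶ A} (hu : AddAlong i c u)
    (hv : AddAlong i c v) : AddAlong i c (u * v) := by
  have e := Abvar.Cube.opull_cube c (fst B T ≫ i) (snd B T ≫ u) (snd B T ≫ v)
  rw [show opull ((fst B T ≫ i) * (snd B T ≫ u)) c = _ from hu,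
    show opull ((fst B T ≫ i) * (snd B T ≫ v)) c = _ from hv] at e
  rw [AddAlong, MonObj.comp_mul, ← _root_.mul_assoc]
  refine mul_right_cancel (b := opull (fst B T ≫ i) c * opull (snd B T ≫ u) c * opull (snd B T ≫ v) c) ?_
  simp only [← _root_.mul_assoc] at e ⊢
  rw [e]
  ac_rfl

theorem addAlong_inv {T : Over (Spec (CommRingCat.of k))} {u : T ⟶ A} (hu : AddAlong i c u) :
    AddAlong i c u⁻¹ := by
  have e := Abvar.Cube.opull_cube c (fst B T ≫ i) (snd B T ≫ u) (snd B T ≫ u⁻¹)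
  rw [show opull ((fst B T ≫ i) * (snd B T ≫ u)) c = _ from hu, GrpObj.comp_inv, mul_inv_cancel_right,
    mul_inv_cancel, opull_one, _root_.mul_one] at e
  rw [AddAlong, GrpObj.comp_inv]
  refine mul_left_cancel (a := opull (fst B T ≫ i) c * opull (snd B T ≫ u) c) ?_
  rw [← e]
  ac_rfl

theorem addAlong_iff_pull {T : Over (Spec (CommRingCat.of k))} (z : T ⟶ A) :
    opull (B ◁ z) (opull ((fst B A ≫ i) * snd B A) c / (opull (fst B A ≫ i) c * opull (snd B A) c)) = 1 ↔
      AddAlong i c z := by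
  simp only [map_div, map_mul, ← opull_comp, MonObj.comp_mul, whiskerLeft_fst_assoc, whiskerLeft_snd,
    div_eq_one]
  rfl

/-- The closed subgroup of points along which `c` is additive on `B`. -/
theorem exists_addAlong [IsMonHom i] : ∃ (G : Over (Spec (CommRingCat.of k))) (_ : GrpObj G) (g : G ⟶ A),
    IsMonHom g ∧ IsClosedImmersion g.left ∧
      ∀ (T : Over (Spec (CommRingCat.of k))) (z : T ⟶ A), (∃ y, y ≫ g = z) ↔ AddAlong i c z := by
  let π : (B ⊗ A).left ⟶ A.left := (snd B A).left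
  have : IsProper π := inferInstanceAs (IsProper (Limits.pullback.snd B.hom A.hom))
  have : Flat π := inferInstanceAs (Flat (Limits.pullback.snd B.hom A.hom))
  have : LocallyOfFinitePresentation π :=
    inferInstanceAs (LocallyOfFinitePresentation (Limits.pullback.snd B.hom A.hom))
  have : GeometricallyIntegral π := inferInstanceAs (GeometricallyIntegral (Limits.pullback.snd B.hom A.hom))
  let s : A ⟶ B ⊗ A := lift 1 (𝟙 A)
  have hs : s.left ≫ π = 𝟙 A.left := congrArg Over.Hom.left (lift_snd (1 : A ⟶ B) (𝟙 A))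
  let d := opull ((fst B A ≫ i) * snd B A) c / (opull (fst B A ≫ i) c * opull (snd B A) c)
  have hd : opull s d = 1 := by
    simp only [d, s, map_div, map_mul, ← opull_comp, MonObj.comp_mul, lift_fst_assoc, lift_snd]
    rw [div_eq_one]
    have h1 : ∀ (h : B ⟶ A) [IsMonHom h], (1 : A ⟶ B) ≫ h = 1 := fun h _ => MonObj.one_comp h
    rw [h1 i, opull_one, _root_.one_mul, _root_.one_mul]
  obtain ⟨Z, iz, hiz, hZ⟩ := Groth.Abvar.Dual.TrivLocus.exists_closed_trivLocus s.left hs d hd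
  let G : Over (Spec (CommRingCat.of k)) := Over.mk (iz ≫ A.hom)
  let g : G ⟶ A := Over.homMk iz rfl
  have : IsClosedImmersion g.left := hiz
  have : Mono g := Over.mono_of_mono_left g
  have hG : ∀ (T : Over (Spec (CommRingCat.of k))) (z : T ⟶ A), (∃ y, y ≫ g = z) ↔ AddAlong i c z := by
    intro T z
    rw [← addAlong_iff_pull]
    refine Iff.trans ?_ (hZ T.left z.left (B ⊗ T).left (B ◁ z).left (snd B T).left
      (Groth.ThetaAlg.isPullback_whiskerLeft B z))
    constructor
    · rintro ⟨y, hy⟩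
      exact ⟨y.left, congrArg Over.Hom.left hy⟩
    · rintro ⟨y, hy⟩
      exact ⟨Over.homMk y (by show y ≫ iz ≫ A.hom = T.hom; rw [← Category.assoc, hy, Over.w]),
        Over.OverMorphism.ext hy⟩
  obtain ⟨inst, hg⟩ := Groth.Agf.exists_grpObj_of_subgroup g (fun T z => AddAlong i c z) hG
    (fun T => addAlong_one i c T) (fun T a b ha hb => addAlong_mul i c ha hb)
    (fun T a ha => addAlong_inv i c ha)
  exact ⟨G, inst, g, hg, inferInstance, hG⟩

section Points

variable (Ω : Type u) [Field Ω] [Algebra k Ω]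

local notation "ptΩ" => SGA7.pt (K := k) Ω

omit [IsProper A.hom] [GeometricallyIntegral A.hom] [IsProper B.hom] [GeometricallyIntegral B.hom]
  [GrpObj A] [GrpObj B] in
/-- Classes pulled back from points are trivial. -/
theorem opull_snd_pt (z : ptΩ ⟶ A) : opull (snd B ptΩ ≫ z) c = 1 := by
  rw [opull_comp]
  have : Subsingleton ↥(ptΩ).left := inferInstanceAs (Subsingleton (PrimeSpectrum Ω))
  rw [eq_one_of_subsingleton (opull z c), map_one]

variable [IsAlgClosed Ω]

noncomputable local instance grpObjBcΩ (X : Over (Spec (CommRingCat.of k))) [GrpObj X] :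
    GrpObj ((bcF Ω).obj X) := Functor.grpObjObj

/-- Translations of the base change, over the ground field. -/
theorem translate_left (b : 𝟙_ (Over (Spec (CommRingCat.of Ω))) ⟶ (bcF Ω).obj B) :
    (𝟙 ((bcF Ω).obj B) * (toUnit ((bcF Ω).obj B) ≫ b)).left =
      (lift (fst B ptΩ * (snd B ptΩ ≫ (bcPoints Ω B).symm b)) (snd B ptΩ) : B ⊗ ptΩ ⟶ B ⊗ ptΩ).left := by
  let t : Spec (CommRingCat.of Ω) ⟶ Spec (CommRingCat.of k) :=
    Spec.map (CommRingCat.ofHom (algebraMap k Ω))
  let X := (bcF Ω).obj B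
  let e : Over.mk (X.hom ≫ t) ⟶ B ⊗ ptΩ := Over.homMk (𝟙 _) (by
    show 𝟙 _ ≫ Limits.pullback.fst B.hom t ≫ B.hom = Limits.pullback.snd B.hom t ≫ t
    rw [Category.id_comp, Limits.pullback.condition])
  have h1 : e ≫ fst B ptΩ = GrpschAbsch.bcPt t (G := B) (𝟙 X) := Over.OverMorphism.ext rfl
  have h2 : e ≫ (snd B ptΩ ≫ (bcPoints Ω B).symm b) = GrpschAbsch.bcPt t (G := B) (toUnit X ≫ b) :=
    Over.OverMorphism.ext (by
      show 𝟙 _ ≫ Limits.pullback.snd B.hom t ≫ b.left ≫ Limits.pullback.fst B.hom t = _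
      rw [Category.id_comp]
      exact (Category.assoc _ _ _).symm)
  have h3 := GrpschAbsch.bcPt_mul t (G := B) (𝟙 X) (toUnit X ≫ b)
  rw [← h1, ← h2, ← MonObj.comp_mul] at h3
  refine Limits.pullback.hom_ext ?_ ?_
  · refine (congrArg Over.Hom.left h3).trans ?_
    refine (Category.id_comp _).trans ?_
    exact (congrArg Over.Hom.left
      (lift_fst (fst B ptΩ * (snd B ptΩ ≫ (bcPoints Ω B).symm b)) (snd B ptΩ))).symm
  · refine (Over.w (𝟙 X * (toUnit X ≫ b))).trans ?_
    exact (congrArg Over.Hom.left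
      (lift_snd (fst B ptΩ * (snd B ptΩ ≫ (bcPoints Ω B).symm b)) (snd B ptΩ))).symm

variable [IsMonHom i]

/-- Translating the restricted class. -/
theorem opull_translate (a : ptΩ ⟶ A) (b : 𝟙_ (Over (Spec (CommRingCat.of Ω))) ⟶ (bcF Ω).obj B) :
    pull (𝟙 ((bcF Ω).obj B) * (toUnit ((bcF Ω).obj B) ≫ b)).left
        (opull ((fst B ptΩ ≫ i) * (snd B ptΩ ≫ a)) c) =
      opull ((fst B ptΩ ≫ i) * (snd B ptΩ ≫ ((bcPoints Ω B).symm b ≫ i)) * (snd B ptΩ ≫ a)) c := by
  rw [translate_left Ω b]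
  show opull _ (opull _ c) = _
  simp only [← opull_comp, MonObj.comp_mul, lift_fst_assoc, lift_snd_assoc, MonObj.mul_comp, Category.assoc]

theorem opull_translate' (b : 𝟙_ (Over (Spec (CommRingCat.of Ω))) ⟶ (bcF Ω).obj B) :
    pull (𝟙 ((bcF Ω).obj B) * (toUnit ((bcF Ω).obj B) ≫ b)).left (opull (fst B ptΩ ≫ i) c) =
      opull ((fst B ptΩ ≫ i) * (snd B ptΩ ≫ ((bcPoints Ω B).symm b ≫ i))) c := by
  rw [translate_left Ω b]
  show opull _ (opull _ c) = _
  simp only [← opull_comp, lift_fst_assoc, MonObj.mul_comp, Category.assoc]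

theorem addAlong_pt_iff (z : ptΩ ⟶ A) : AddAlong i c z ↔
    opull ((fst B ptΩ ≫ i) * (snd B ptΩ ≫ z)) c = opull (fst B ptΩ ≫ i) c := by
  rw [AddAlong, opull_snd_pt, _root_.mul_one]

variable [IsClosedImmersion i.left] {L : A.left.Modules} (hL : CohB1.IsAmple L)

include hL in
theorem finite_stab : {b : 𝟙_ (Over (Spec (CommRingCat.of Ω))) ⟶ (bcF Ω).obj B |
    pull (𝟙 ((bcF Ω).obj B) * (toUnit ((bcF Ω).obj B) ≫ b)).left (opull (fst B ptΩ ≫ i) (cls hL.1)) =
      opull (fst B ptΩ ≫ i) (cls hL.1)}.Finite := by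
  have := isProper_bcF Ω B
  have := geometricallyIntegral_bcF Ω B
  let p : ((bcF Ω).obj B).left ⟶ A.left := Limits.pullback.fst B.hom _ ≫ i.left
  have : IsAffineHom (Spec.map (CommRingCat.ofHom (algebraMap k Ω))) := inferInstance
  have : IsAffineHom (Limits.pullback.fst B.hom (Spec.map (CommRingCat.ofHom (algebraMap k Ω)))) :=
    MorphismProperty.pullback_fst (P := @IsAffineHom) _ _ inferInstance
  have : IsAffineHom i.left := inferInstance
  have : IsAffineHom p := inferInstanceAs (IsAffineHom (Limits.pullback.fst B.hom _ ≫ i.left))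
  have hL' := Groth.Chow.isAmple_pullback_of_isAffineHom p hL
  refine (Groth.AbvarAmple.finite_fixed hL').subset fun b hb => ?_
  have e : cls hL'.1 = opull (fst B ptΩ ≫ i) (cls hL.1) := (pull_cls p hL.1).symm
  show opull _ _ = _
  rw [e]
  exact hb

include hL in
/-- Finitely many points of `B` lie in the subgroup. -/
theorem finite_addAlong : {b : ptΩ ⟶ B | AddAlong i (cls hL.1) (b ≫ i)}.Finite := by
  refine ((finite_stab i Ω hL).preimage (bcPoints Ω B).injective.injOn).subset fun b hb => ?_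
  show pull _ _ = _
  rw [opull_translate', MulEquiv.symm_apply_apply]
  exact (addAlong_pt_iff i _ Ω _).1 hb

include hL in
/-- The subgroup and `B` together fill up the points. -/
theorem exists_decomp (a : ptΩ ⟶ A) : ∃ b : ptΩ ⟶ B, AddAlong i (cls hL.1) (a * (b ≫ i)⁻¹) := by
  have := isProper_bcF Ω B
  have := geometricallyIntegral_bcF Ω B
  let c := cls hL.1
  let X := fst B ptΩ ≫ i
  let c' : PicLoc.PicSet ((bcF Ω).obj B).left := opull X c
  let m : PicLoc.PicSet ((bcF Ω).obj B).left := opull (X * (snd B ptΩ ≫ a)) c / opull X c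
  have h0 : ∀ z : ptΩ ⟶ A, opull (snd B ptΩ ≫ z) c = 1 := opull_snd_pt c Ω
  have h0' : ∀ z w : ptΩ ⟶ A, opull ((snd B ptΩ ≫ z) * (snd B ptΩ ≫ w)) c = 1 := fun z w => by
    rw [← MonObj.comp_mul]; exact h0 _
  have cube : ∀ z w : ptΩ ⟶ A, opull (X * (snd B ptΩ ≫ z) * (snd B ptΩ ≫ w)) c * opull X c =
      opull (X * (snd B ptΩ ≫ z)) c * opull (X * (snd B ptΩ ≫ w)) c := fun z w => by
    have e := Abvar.Cube.opull_cube c X (snd B ptΩ ≫ z) (snd B ptΩ ≫ w)
    rwa [h0, h0, h0', _root_.mul_one, _root_.mul_one, _root_.mul_one] at e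
  obtain ⟨x, hx⟩ := Groth.AbvarAmple.exists_translate_eq_mul c' (finite_stab i Ω hL) m (fun b => by
    show pull _ _ = m
    simp only [m, map_div]
    rw [opull_translate i c Ω a b, opull_translate' i c Ω b, div_eq_div_iff_mul_eq_mul,
      cube, _root_.mul_comm])
  refine ⟨(bcPoints Ω B).symm x, (addAlong_pt_iff i c Ω _).2 ?_⟩
  set z := (bcPoints Ω B).symm x ≫ i
  have hx' : opull (X * (snd B ptΩ ≫ z)) c = opull (X * (snd B ptΩ ≫ a)) c := by
    have h := (opull_translate' i c Ω x).symm.trans hx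
    rw [h]
    exact mul_div_cancel _ _
  have e1 := cube a z⁻¹
  have e2 := cube z z⁻¹
  rw [GrpObj.comp_inv, mul_inv_cancel_right] at e2
  rw [← GrpObj.comp_inv] at e2
  rw [← hx', ← e2, _root_.mul_assoc, ← MonObj.comp_mul] at e1
  exact mul_right_cancel e1

end Points

/-- An exponent for the kernel of a finite homomorphism on geometric points. -/
theorem exists_exponent {X Y : Over (Spec (CommRingCat.of k))} [GrpObj X] [IsProper X.hom]
    [GeometricallyIntegral X.hom] [GrpObj Y] [IsProper Y.hom] (h : X ⟶ Y) [IsMonHom h] [IsFinite h.left]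
    (Ω : Type u) [Field Ω] [Algebra k Ω] [IsAlgClosed Ω] :
    ∃ n : ℕ, n ≠ 0 ∧ ∀ x : SGA7.pt (K := k) Ω ⟶ X, x ≫ h = 1 → x ^ n = 1 := by
  let H : Subgroup (SGA7.pt (K := k) Ω ⟶ X) :=
    { carrier := {x | x ≫ h = 1}
      one_mem' := MonObj.one_comp h
      mul_mem' := fun {a b} ha hb => by
        show (a * b) ≫ h = 1
        rw [MonObj.mul_comp, ha, hb, _root_.one_mul]
      inv_mem' := fun {a} ha => by
        show a⁻¹ ≫ h = 1
        rw [GrpObj.inv_comp, ha, inv_one] }
  have : Finite H := (finite_ker_bc Ω h).to_subtype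
  exact ⟨Nat.card H, Nat.card_pos.ne', fun x hx =>
    congrArg Subtype.val (pow_card_eq_one' (x := (⟨x, hx⟩ : H)))⟩


/-- **Poincaré reducibility**: every abelian subvariety has a complement up to isogeny. -/
theorem exists_complement {K : Type u} [Field K] (A B : Over (Spec (CommRingCat.of K)))
    [GrpObj A] [IsProper A.hom] [GeometricallyIntegral A.hom]
    [GrpObj B] [IsProper B.hom] [GeometricallyIntegral B.hom]
    (i : B ⟶ A) [IsMonHom i] [IsClosedImmersion i.left] :
    ∃ (C : Over (Spec (CommRingCat.of K))) (_ : GrpObj C) (j : C ⟶ A), IsProper C.hom ∧ GeometricallyIntegral C.hom ∧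
      IsMonHom j ∧ IsClosedImmersion j.left ∧
      Surjective ((fst B C ≫ i) * (snd B C ≫ j)).left ∧ IsFinite ((fst B C ≫ i) * (snd B C ≫ j)).left := by
  classical
  obtain ⟨L, hL⟩ := Groth.AbVarMul.exists_isAmple (A := A)
  have := GrpschAbsch.isCommMonObj_of_isProper A
  obtain ⟨G, _, g, _, _, hG⟩ := exists_addAlong i (Groth.Abvar.PicCalc.cls hL.1)
  obtain ⟨Q, _, q, _, _, _, _, _, hq⟩ := AbvarAlb.exists_quotient g
  obtain ⟨C, Q₁, _, _, j, q₁, g₁, _, _, _, _, _, _, _, _, _, _, hq₁, _, hqg⟩ := AbvarAlb.exists_stein q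
  have : Mono i := Over.mono_of_mono_left i
  have : Mono j := Over.mono_of_mono_left j
  have := AbvarAlb.isProper_tensor B C
  have := AbvarAlb.geometricallyIntegral_tensor B C
  let s : B ⊗ C ⟶ A := (fst B C ≫ i) * (snd B C ≫ j)
  have : IsMonHom s := Abvar.isMonHom_of_one s (by
    simp only [s, MonObj.comp_mul, ← Category.assoc]
    rw [show η[B ⊗ C] ≫ fst B C = η[B] from IsMonHom.one_hom (fst B C),
      show η[B ⊗ C] ≫ snd B C = η[C] from IsMonHom.one_hom (snd B C), IsMonHom.one_hom, IsMonHom.one_hom]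
    exact _root_.one_mul _)
  let Ω := AlgebraicClosure K
  have hfin : IsFinite s.left := by
    refine AbvarAlb.isFinite_of_finite_ker_bc Ω s ?_
    refine Set.Finite.of_finite_image
      ((finite_addAlong i Ω hL).subset ?_ : ((fun x => x ≫ fst B C) '' _).Finite) ?_
    · rintro _ ⟨x, hx, rfl⟩
      have hx' : (x ≫ fst B C) ≫ i = ((x ≫ snd B C) ≫ j)⁻¹ := eq_inv_of_mul_eq_one_left (by
        rw [Category.assoc, Category.assoc, ← MonObj.comp_mul]; exact hx)
      show AddAlong i _ ((x ≫ fst B C) ≫ i)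
      refine (hG _ _).1 (AlgGrp1.IsKernel.exists_lift hq _ ?_)
      rw [hx', ← GrpObj.inv_comp, Category.assoc, ← hqg, ← Category.assoc j,
        AlgGrp1.IsKernel.comp_eq_one hq₁, MonObj.one_comp, MonObj.comp_one]
    · intro x hx y hy hxy
      have h1 : (x ≫ fst B C) ≫ i * (x ≫ snd B C) ≫ j = 1 := by
        rw [Category.assoc, Category.assoc, ← MonObj.comp_mul]; exact hx
      have h2 : (y ≫ fst B C) ≫ i * (y ≫ snd B C) ≫ j = 1 := by
        rw [Category.assoc, Category.assoc, ← MonObj.comp_mul]; exact hy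
      simp only at hxy
      rw [hxy, ← h2] at h1
      exact CartesianMonoidalCategory.hom_ext _ _ hxy ((cancel_mono j).1 (mul_left_cancel h1))
  obtain ⟨I, _, ι', p, _, _, _, _, hpι, _, _⟩ := AbvarAlb.exists_image_of_proper s
  have : IsProper (𝟙_ (Over (Spec (CommRingCat.of K)))).hom := inferInstanceAs (IsProper (𝟙 _))
  obtain ⟨R, _, r, _, _, _, _, _, hr⟩ := AbvarAlb.exists_quotient ι'
  have hs_r : s ≫ r = 1 := by
    rw [← hpι, Category.assoc, AlgGrp1.IsKernel.comp_eq_one hr, MonObj.comp_one]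
  have hBr : i ≫ r = 1 := by
    have h : lift (𝟙 B) (1 : B ⟶ C) ≫ s = i := by
      simp only [s, MonObj.comp_mul, lift_fst_assoc, lift_snd_assoc, Category.id_comp]
      rw [MonObj.one_comp, _root_.mul_one]
    rw [← h, Category.assoc, hs_r, MonObj.comp_one]
  have hCr : j ≫ r = 1 := by
    have h : lift (1 : C ⟶ B) (𝟙 C) ≫ s = j := by
      simp only [s, MonObj.comp_mul, lift_fst_assoc, lift_snd_assoc, Category.id_comp]
      rw [MonObj.one_comp, _root_.one_mul]
    rw [← h, Category.assoc, hs_r, MonObj.comp_one]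
  obtain ⟨n, hn, hexp⟩ := exists_exponent g₁ Ω
  have hpow : ∀ x : SGA7.pt (K := K) Ω ⟶ R, x ^ n = 1 := by
    intro x
    obtain ⟨a, rfl⟩ := AbVarMul.exists_comp_eq_bc Ω r x
    obtain ⟨b, hb⟩ := exists_decomp i Ω hL a
    obtain ⟨y, hy⟩ := (hG _ _).2 hb
    have h1 : ((a * (b ≫ i)⁻¹) ≫ q₁) ≫ g₁ = 1 := by
      rw [← hy, Category.assoc, hqg, Category.assoc, AlgGrp1.IsKernel.comp_eq_one hq, MonObj.comp_one]
    obtain ⟨w, hw⟩ := AlgGrp1.IsKernel.exists_lift hq₁ ((a * (b ≫ i)⁻¹) ^ n) (by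
      rw [MonObj.pow_comp]; exact hexp _ h1)
    have h2 : ((a * (b ≫ i)⁻¹) ≫ r) ^ n = 1 := by
      rw [← MonObj.pow_comp, ← hw, Category.assoc, hCr, MonObj.comp_one]
    rwa [MonObj.mul_comp, GrpObj.inv_comp, Category.assoc, hBr, MonObj.comp_one, inv_one,
      _root_.mul_one] at h2
  have := GrpschAbsch.isCommMonObj_of_isProper R
  have : IsFinite (toUnit R).left := by
    refine AbvarAlb.isFinite_of_finite_ker_bc Ω (toUnit R) ?_
    have : IsFinite (𝟙 R ^ n : R ⟶ R).left := by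
      rw [← zpow_natCast]; exact (AbVarMul.isogeny_zpow (A := R) (d := (n : ℤ)) (by exact_mod_cast hn)).1
    refine (AbVarMul.finite_ker_bc Ω (𝟙 R ^ n : R ⟶ R)).subset fun x _ => ?_
    show x ≫ (𝟙 R ^ n : R ⟶ R) = 1
    rw [MonObj.comp_pow, Category.comp_id, hpow]
  have hr1 : r = 1 := AbvarAlb.eq_one_of_finite r (toUnit R) (toUnit_unique _ _)
  obtain ⟨l, hl⟩ := AlgGrp1.IsKernel.exists_lift hr (𝟙 A) (by rw [Category.id_comp, hr1])
  have hsurj : Surjective s.left := by
    have : Surjective ι'.left := ⟨fun x => ⟨l.left x, by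
      rw [← Scheme.Hom.comp_apply, ← Over.comp_left, hl]; rfl⟩⟩
    rw [← hpι]
    exact inferInstanceAs (Surjective (p.left ≫ ι'.left))
  exact ⟨C, inferInstance, j, inferInstance, inferInstance, inferInstance, inferInstance, hsurj, hfin⟩

/-- A finite surjective homomorphism of abelian varieties has an inverse up to a positive integer. -/
theorem exists_quasi_inverse {X Y : Over (Spec (CommRingCat.of k))} [GrpObj X] [IsProper X.hom]
    [GeometricallyIntegral X.hom] [GrpObj Y] [IsProper Y.hom] [GeometricallyIntegral Y.hom]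
    (f : X ⟶ Y) [IsMonHom f] [IsFinite f.left] [Surjective f.left] :
    ∃ (n : ℕ) (g : Y ⟶ X), n ≠ 0 ∧ IsMonHom g ∧ f ≫ g = 𝟙 X ^ n ∧ g ≫ f = 𝟙 Y ^ n := by
  have := GrpschAbsch.isCommMonObj_of_isProper X
  have : Flat f.left := Groth.GrpschAbsch.FibreFlat.flat_of_surjective_field f
  have : LocallyOfFinitePresentation f.left := by
    have := AlgGrp1.isLocallyNoetherian_left Y
    infer_instance
  let n := Scheme.Hom.finrank f.left (η[Y].left (IsLocalRing.closedPoint k))
  have hdeg : ∀ s : (Spec (CommRingCat.of k)), Scheme.Hom.finrank f.left (η[Y].left s) = n := fun s => by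
    rw [Subsingleton.elim (α := PrimeSpectrum k) s (IsLocalRing.closedPoint k)]
  have hn : n ≠ 0 := by
    obtain ⟨x, hx⟩ := f.left.surjective (η[Y].left (IsLocalRing.closedPoint k))
    have := Scheme.Hom.one_le_finrank_map f.left x
    rw [hx] at this
    exact Nat.one_le_iff_ne_zero.1 this
  have : IsMonHom (𝟙 X ^ n : X ⟶ X) := by rw [← zpow_natCast]; infer_instance
  obtain ⟨g, hg, hfg⟩ := AbVarMul.exists_factor_of_flat f (𝟙 X ^ n : X ⟶ X)
    (AbVarMul.kills_kernel_pow f n hdeg)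
  have := AbVarMul.epi_of_flat_surjective f
  refine ⟨n, g, hn, hg, hfg, ?_⟩
  rw [← cancel_epi f, ← Category.assoc, hfg, MonObj.pow_comp, Category.id_comp, MonObj.comp_pow,
    Category.comp_id]

/-- A surjective homomorphism of abelian varieties has a section up to a positive integer. -/
theorem exists_section {X Y : Over (Spec (CommRingCat.of k))} [GrpObj X] [IsProper X.hom]
    [GeometricallyIntegral X.hom] [GrpObj Y] [IsProper Y.hom] [GeometricallyIntegral Y.hom]
    (p : X ⟶ Y) [IsMonHom p] [Surjective p.left] :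
    ∃ (n : ℕ) (g : Y ⟶ X), n ≠ 0 ∧ IsMonHom g ∧ g ≫ p = 𝟙 Y ^ n := by
  obtain ⟨C₀, Q, _, _, i₀, q, g₀, _, _, _, _, _, _, _, _, _, _, hq, _, hqg⟩ := AbvarAlb.exists_stein p
  obtain ⟨C, _, j, _, _, _, _, hs, hf⟩ := exists_complement X C₀ i₀
  have := AbvarAlb.isProper_tensor C₀ C
  have := AbvarAlb.geometricallyIntegral_tensor C₀ C
  have := hs
  have := hf
  let f : C ⟶ Y := j ≫ p
  have hsp : ((fst C₀ C ≫ i₀) * (snd C₀ C ≫ j)) ≫ p = snd C₀ C ≫ f := by
    rw [MonObj.mul_comp, Category.assoc, Category.assoc]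
    have : i₀ ≫ p = 1 := by
      rw [← hqg, ← Category.assoc, AlgGrp1.IsKernel.comp_eq_one hq, MonObj.one_comp]
    rw [this, MonObj.comp_one, _root_.one_mul]
  have : Surjective f.left := by
    have h2 : Surjective ((snd C₀ C).left ≫ f.left) := by
      rw [← Over.comp_left, ← hsp]
      exact inferInstanceAs (Surjective (_ ≫ p.left))
    exact Surjective.of_comp (snd C₀ C).left f.left
  have : IsFinite f.left := by
    let Ω := AlgebraicClosure k
    refine AbvarAlb.isFinite_of_finite_ker_bc Ω f ?_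
    -- `(0, x)` and a point of `C₀` lying over it
    have hfin := AbVarMul.finite_ker_bc Ω ((fst C₀ C ≫ i₀) * (snd C₀ C ≫ j))
    obtain ⟨m, hm, hexp⟩ := exists_exponent g₀ Ω
    have hCfin : {x : SGA7.pt (K := k) Ω ⟶ C | ∃ w : SGA7.pt (K := k) Ω ⟶ C₀, w ≫ i₀ = x ≫ j}.Finite := by
      refine (hfin.image fun z => z ≫ snd C₀ C).subset ?_
      rintro x ⟨w, hw⟩
      refine ⟨lift w⁻¹ x, ?_, lift_snd _ _⟩
      show lift w⁻¹ x ≫ _ = 1
      rw [MonObj.comp_mul, lift_fst_assoc, lift_snd_assoc, GrpObj.inv_comp, hw, inv_mul_cancel]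
    have hm' : IsFinite (𝟙 C ^ m : C ⟶ C).left := by
      rw [← zpow_natCast]; exact (AbVarMul.isogeny_zpow (A := C) (d := (m : ℤ)) (by exact_mod_cast hm)).1
    have := GrpschAbsch.isCommMonObj_of_isProper C
    have hroots : ∀ v : SGA7.pt (K := k) Ω ⟶ C, {x : SGA7.pt (K := k) Ω ⟶ C | x ^ m = v}.Finite := by
      intro v
      rcases Set.eq_empty_or_nonempty {x : SGA7.pt (K := k) Ω ⟶ C | x ^ m = v} with h | ⟨x₀, hx₀⟩
      · rw [h]; exact Set.finite_empty
      refine ((AbVarMul.finite_ker_bc Ω (𝟙 C ^ m : C ⟶ C)).image fun y => y * x₀).subset fun x hx => ?_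
      refine ⟨x * x₀⁻¹, ?_, inv_mul_cancel_right x x₀⟩
      show (x * x₀⁻¹) ≫ (𝟙 C ^ m : C ⟶ C) = 1
      rw [MonObj.comp_pow, Category.comp_id, mul_pow, inv_pow, show x ^ m = v from hx,
        show x₀ ^ m = v from hx₀, mul_inv_cancel]
    refine (hCfin.biUnion fun v _ => hroots v).subset fun x hx => ?_
    refine Set.mem_biUnion (x := x ^ m) ?_ rfl
    have h1 : ((x ≫ j) ≫ q) ≫ g₀ = 1 := by
      rw [Category.assoc, hqg, Category.assoc]
      exact hx
    refine AlgGrp1.IsKernel.exists_lift hq ((x ^ m) ≫ j) ?_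
    rw [MonObj.pow_comp, MonObj.pow_comp]
    exact hexp _ h1
  obtain ⟨n, g, hn, _, -, hgf⟩ := exists_quasi_inverse f
  exact ⟨n, g ≫ j, hn, inferInstance, by rw [Category.assoc]; exact hgf⟩

/-- An abelian subvariety is a direct factor up to isogeny. -/
theorem exists_retraction {X Y : Over (Spec (CommRingCat.of k))} [GrpObj X] [IsProper X.hom]
    [GeometricallyIntegral X.hom] [GrpObj Y] [IsProper Y.hom] [GeometricallyIntegral Y.hom]
    (inc : X ⟶ Y) [IsMonHom inc] [IsClosedImmersion inc.left] :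
    ∃ (n : ℕ) (ρ : Y ⟶ X), n ≠ 0 ∧ IsMonHom ρ ∧ inc ≫ ρ = 𝟙 X ^ n := by
  obtain ⟨C, _, j, _, _, _, _, hs, hf⟩ := exists_complement Y X inc
  have := AbvarAlb.isProper_tensor X C
  have := AbvarAlb.geometricallyIntegral_tensor X C
  have := GrpschAbsch.isCommMonObj_of_isProper Y
  let s : X ⊗ C ⟶ Y := (fst X C ≫ inc) * (snd X C ≫ j)
  have : IsMonHom s := Abvar.isMonHom_of_one s (by
    simp only [s, MonObj.comp_mul, ← Category.assoc]
    rw [show η[X ⊗ C] ≫ fst X C = η[X] from IsMonHom.one_hom (fst X C),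
      show η[X ⊗ C] ≫ snd X C = η[C] from IsMonHom.one_hom (snd X C), IsMonHom.one_hom, IsMonHom.one_hom]
    exact _root_.one_mul _)
  have : IsFinite s.left := hf
  have : Surjective s.left := hs
  obtain ⟨n, g, hn, _, hsg, -⟩ := exists_quasi_inverse s
  refine ⟨n, g ≫ fst X C, hn, inferInstance, ?_⟩
  have h : lift (𝟙 X) (1 : X ⟶ C) ≫ s = inc := by
    simp only [s, MonObj.comp_mul, lift_fst_assoc, lift_snd_assoc, Category.id_comp]
    rw [MonObj.one_comp, _root_.mul_one]
  rw [← h, Category.assoc, ← Category.assoc s, hsg, MonObj.pow_comp, Category.id_comp, MonObj.comp_pow,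
    lift_fst]

end Groth.AbvarAlb.Poincare
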