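import Groth.Agent.GrpschAbsch.AffLine
import Groth.Agent.GrpschAbsch.BcPoint
import Groth.Agent.GrpschAbsch.FibreTranslate
import Groth.Agent.AlgGrp1.TorusSplit
import Groth.Agent.Abvar.AlgClosedAux
import Groth.Agent.AbvarAlb.MaxAbelian

/-!
# Morphisms from affine space to semiabelian group schemes are constant
-/

set_option autoImplicit false
universe u

open CategoryTheory Limits MonoidalCategory CartesianMonoidalCategory MonObj GrpObj AlgebraicGeometry
  TopologicalSpace
open Groth.GrpschAbsch.RationalToAbelian (Aff)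
open Groth.AlgGrp1 (specAlg)

namespace Groth.AbvarAlb

variable {k : Type u} [Field k] (K : Type u) [Field K] [Algebra k K] (n : ℕ)

/-- The field extension as a morphism of spectra. -/
noncomputable abbrev ext' : Spec (CommRingCat.of K) ⟶ Spec (CommRingCat.of k) :=
  Spec.map (CommRingCat.ofHom (algebraMap k K))

variable (k) in
/-- Affine space over `K`, as a `k`-scheme. -/
noncomputable def affK : Over (Spec (CommRingCat.of k)) := Over.mk ((Aff K n).hom ≫ ext' (k := k) K)

variable (k) in
/-- The structure projection. -/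
noncomputable def proj : affK k K n ⟶ specAlg k K := Over.homMk (Aff K n).hom rfl

variable (k) in
/-- The point with coordinates `v`. -/
noncomputable def pt (v : Fin n → K) : specAlg k K ⟶ affK k K n :=
  Over.homMk (Spec.map (CommRingCat.ofHom (MvPolynomial.eval₂Hom (RingHom.id K) v))) (by
    show Spec.map _ ≫ (Spec.map _ ≫ Spec.map _) = Spec.map _
    rw [← Spec.map_comp, ← Spec.map_comp]
    congr 1
    ext r
    exact MvPolynomial.eval₂Hom_C _ _ _)

theorem pt_proj (v : Fin n → K) : pt k K n v ≫ proj k K n = 𝟙 _ := by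
  ext1
  show Spec.map _ ≫ Spec.map _ = 𝟙 (Spec (CommRingCat.of K))
  rw [← Spec.map_comp, ← Spec.map_id]
  congr 1
  ext r
  exact MvPolynomial.eval₂Hom_C _ _ _

instance : IrreducibleSpace (affK k K n).left :=
  inferInstanceAs (IrreducibleSpace (PrimeSpectrum (MvPolynomial (Fin n) K)))

/-- Morphisms to tori split over a subfield are constant. -/
theorem torus_const {T : Over (Spec (CommRingCat.of k))} [GrpObj T] (L : Type u) [Field L] [Algebra k L]
    [Algebra L K] [IsScalarTower k L K] {M : Type} [AddCommGroup M]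
    (hT : Red.IsSplitTorusWith M (Red.bc (Groth.AlgGrp2.str k L) T)) (y : affK k K n ⟶ T) :
    y = proj k K n ≫ pt k K n 0 ≫ y := by
  obtain ⟨e⟩ := hT
  let gL : Spec (CommRingCat.of K) ⟶ Spec (CommRingCat.of L) := Spec.map (CommRingCat.ofHom (algebraMap L K))
  have hg : gL ≫ Groth.AlgGrp2.str k L = ext' K := by
    show Spec.map _ ≫ Spec.map _ = Spec.map _
    rw [← Spec.map_comp]
    congr 1
    ext r
    exact (IsScalarTower.algebraMap_apply k L K r).symm
  let x : Over.mk ((Aff K n).hom ≫ gL) ⟶ Red.bc (Groth.AlgGrp2.str k L) T :=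
    Over.homMk (pullback.lift y.left ((Aff K n).hom ≫ gL) (by
      refine (Over.w y).trans ?_
      show (Aff K n).hom ≫ ext' K = _
      rw [← hg, Category.assoc])) (pullback.lift_snd _ _ _)
  let c : (Aff K n).left ⟶ (Aff K n).left := (Aff K n).hom ≫ (pt k K n 0).left
  have hc : c ≫ (Aff K n).hom = (Aff K n).hom := by
    show ((Aff K n).hom ≫ (pt k K n 0).left) ≫ (proj k K n).left = _
    rw [Category.assoc, ← Over.comp_left, pt_proj]
    exact Category.comp_id _
  let e' : Red.bc (Groth.AlgGrp2.str k L) T ≅ Red.DS (Spec (CommRingCat.of L)) M := (Grp.forget _).mapIso e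
  have key : (x ≫ e'.hom).left = c ≫ (x ≫ e'.hom).left := by
    refine pullback.hom_ext ?_ ?_
    · obtain ⟨φ, hφ⟩ := Spec.map_surjective
        ((x ≫ e'.hom).left ≫ pullback.fst _ _ :
          Spec (CommRingCat.of (MvPolynomial (Fin n) K)) ⟶
            Spec (CommRingCat.of (MonoidAlgebra (ULift.{u} ℤ) (Multiplicative M))))
      refine hφ.symm.trans (Eq.trans ?_ (Category.assoc _ _ _).symm)
      refine Eq.trans ?_ (congrArg (fun t => c ≫ t) hφ)
      show Spec.map φ = (Spec.map _ ≫ Spec.map _) ≫ Spec.map φ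
      rw [← Spec.map_comp, ← Spec.map_comp]
      congr 1
      refine CommRingCat.hom_ext (MonoidAlgebra.ringHom_ext (fun r => ?_) (fun m => ?_))
      · have : Subsingleton (ULift.{u} ℤ →+* MvPolynomial (Fin n) K) :=
          ⟨fun f g => RingHom.ext fun ⟨r⟩ => RingHom.congr_fun
            (RingHom.ext_int (f.comp (ULift.ringEquiv : ULift.{u} ℤ ≃+* ℤ).symm.toRingHom)
              (g.comp (ULift.ringEquiv : ULift.{u} ℤ ≃+* ℤ).symm.toRingHom)) r⟩
        exact RingHom.congr_fun (@Subsingleton.elim _ this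
          ((φ.hom).comp MonoidAlgebra.singleOneRingHom)
          ((MvPolynomial.C.comp ((MvPolynomial.eval₂Hom (RingHom.id K) (0 : Fin n → K)).comp φ.hom)).comp
            MonoidAlgebra.singleOneRingHom)) r
      · obtain ⟨a, -, ha⟩ := MvPolynomial.isUnit_iff_eq_C_of_isReduced.mp
          (((Group.isUnit m).map (MonoidAlgebra.of (ULift.{u} ℤ) (Multiplicative M))).map φ.hom)
        show φ.hom (MonoidAlgebra.single m 1) =
          MvPolynomial.C (MvPolynomial.eval₂Hom (RingHom.id K) 0 (φ.hom (MonoidAlgebra.single m 1)))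
        rw [show φ.hom (MonoidAlgebra.single m 1) = MvPolynomial.C a from ha, MvPolynomial.eval₂Hom_C]
        rfl
    · rw [Category.assoc]
      show (x ≫ e'.hom).left ≫ (Red.DS _ M).hom = c ≫ (x ≫ e'.hom).left ≫ (Red.DS _ M).hom
      rw [Over.w]
      show _ = c ≫ (Aff K n).hom ≫ gL
      rw [reassoc_of% hc]
      rfl
  have key' : x.left = c ≫ x.left := by
    have := congrArg (· ≫ e'.inv.left) key
    simp only [Category.assoc, Over.comp_left] at this
    rwa [← Over.comp_left, e'.hom_inv_id, Over.id_left, Category.comp_id] at this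
  ext1
  have h := congrArg (· ≫ pullback.fst T.hom (Groth.AlgGrp2.str k L)) key'
  have hx : x.left ≫ pullback.fst T.hom (Groth.AlgGrp2.str k L) = y.left := pullback.lift_fst _ _ _
  simp only [Category.assoc] at h
  rw [hx] at h
  exact h

/-- Morphisms to abelian varieties are constant. -/
theorem abVar_const {A : Over (Spec (CommRingCat.of k))} [GrpObj A] [IsProper A.hom]
    [GeometricallyIntegral A.hom] (y : affK k K n ⟶ A) :
    y = proj k K n ≫ pt k K n 0 ≫ y := by
  have : IsProper (Red.bc (ext' (k := k) K) A).hom := by dsimp; infer_instance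
  have : GeometricallyIntegral (Red.bc (ext' (k := k) K) A).hom := by dsimp; infer_instance
  let x : Aff K n ⟶ Red.bc (ext' (k := k) K) A :=
    Over.homMk (pullback.lift y.left (Aff K n).hom (Over.w y)) (pullback.lift_snd _ _ _)
  have h := congrArg (fun f => f.left ≫ pullback.fst A.hom (ext' K))
    (Groth.GrpschAbsch.RationalToAbelian.aff_const (Red.bc (ext' (k := k) K) A) x)
  have hx : x.left ≫ pullback.fst A.hom (ext' K) = y.left := pullback.lift_fst _ _ _
  simp only [Over.comp_left, Category.assoc] at h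
  rw [hx] at h
  ext1
  rw [h]
  show (Aff K n).hom ≫ _ = (Aff K n).hom ≫ _
  congr 1
  congr 1
  show (Groth.GrpschAbsch.RationalToAbelian.zeroPt K n).left = (pt k K n 0).left
  have : Groth.GrpschAbsch.RationalToAbelian.zeroPt K n =
      Over.homMk (U := 𝟙_ (Over (Spec (CommRingCat.of K)))) (pt k K n 0).left
        (congr(($(pt_proj (k := k) K n 0)).left)) := by
    refine Groth.GrpschAbsch.RationalToAbelian.hom_ext fun i => ?_
    rw [Groth.GrpschAbsch.RationalToAbelian.zeroPt, Groth.GrpschAbsch.RationalToAbelian.cdF_aff]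
    symm
    show ((Spec.map (CommRingCat.ofHom (MvPolynomial.eval₂Hom (RingHom.id K) (0 : Fin n → K)))).appTop)
      ((Scheme.ΓSpecIso (CommRingCat.of (MvPolynomial (Fin n) K))).inv (MvPolynomial.X i)) = 0
    have h := congr(($(Scheme.ΓSpecIso_inv_naturality
      (CommRingCat.ofHom (MvPolynomial.eval₂Hom (RingHom.id K) (0 : Fin n → K))))).hom (MvPolynomial.X i))
    refine Eq.trans h.symm ?_
    show (Scheme.ΓSpecIso (CommRingCat.of K)).inv (MvPolynomial.eval₂Hom (RingHom.id K) 0 (MvPolynomial.X i)) = 0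
    rw [MvPolynomial.eval₂Hom_X']
    exact map_zero _
  rw [this]
  rfl

variable [IsAlgClosed K]

/-- Every closed point of affine space over `K` is a `K`-point. -/
theorem exists_pt (z : (affK k K n).left) (hz : IsClosed ({z} : Set (affK k K n).left)) :
    ∃ v : specAlg k K ⟶ affK k K n, v ≫ proj k K n = 𝟙 _ ∧ v.left (IsLocalRing.closedPoint K) = z := by
  obtain ⟨s, hs⟩ := Groth.Abvar.exists_rationalPoint (Aff K n) hz
  have hw : s.left ≫ (Aff K n).hom = 𝟙 _ := Over.w s
  refine ⟨Over.homMk s.left ?_, ?_, hs⟩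
  · show s.left ≫ (Aff K n).hom ≫ ext' K = ext' K
    rw [reassoc_of% hw]
  · ext1
    exact hw

/-- A morphism from affine space over `K` to a group scheme with semiabelian neutral component is
constant. -/
theorem semiabelian_const {G G0 T A : Over (Spec (CommRingCat.of k))} [GrpObj G] [GrpObj G0]
    (e : G0 ⟶ G) [IsMonHom e] [IsOpenImmersion e.left] [GrpObj T] (i : T ⟶ G0) [IsMonHom i]
    [GrpObj A] [IsProper A.hom] [GeometricallyIntegral A.hom] (q : G0 ⟶ A) [IsMonHom q]
    (hker : AlgGrp.IsKernel i q) (hT : ∀ t : affK k K n ⟶ T, t = proj k K n ≫ pt k K n 0 ≫ t)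
    (y : affK k K n ⟶ G) : y = proj k K n ≫ pt k K n 0 ≫ y := by
  set o := pt k K n 0
  let y' := y * (proj k K n ≫ o ≫ y)⁻¹
  have hoy : o ≫ y' = 1 := by
    simp only [y', MonObj.comp_mul, GrpObj.comp_inv]
    rw [reassoc_of% (pt_proj (k := k) K n (0 : Fin n → K)), mul_inv_cancel]
  suffices h : y' = 1 by exact mul_inv_eq_one.mp h
  let R : Set G.left := Set.range e.left
  have hR : IsOpen R := e.left.isOpenEmbedding.isOpen_range
  have hlift : ∀ g : specAlg k K ⟶ G, g.left (IsLocalRing.closedPoint K) ∈ R →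
      ∃ g₀ : specAlg k K ⟶ G0, g₀ ≫ e = g := fun g hg => by
    have hsub : Set.range g.left ⊆ Set.range e.left := by
      rintro _ ⟨t, rfl⟩
      rwa [show t = IsLocalRing.closedPoint K from Subsingleton.elim (α := PrimeSpectrum K) _ _]
    exact ⟨Over.homMk (IsOpenImmersion.lift e.left g.left hsub)
      (by rw [← Over.w e, IsOpenImmersion.lift_fac_assoc, Over.w g]),
      Over.OverMorphism.ext (IsOpenImmersion.lift_fac _ _ _)⟩
  have hone : ∀ g₀ : specAlg k K ⟶ G0, (g₀ ≫ e).left (IsLocalRing.closedPoint K) ∈ R :=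
    fun g₀ => ⟨g₀.left (IsLocalRing.closedPoint K), rfl⟩
  have honeR : (1 : specAlg k K ⟶ G).left (IsLocalRing.closedPoint K) ∈ R := by
    have := hone 1
    rwa [MonObj.one_comp] at this
  have huniv : ∀ z, y'.left z ∈ R := by
    by_contra hne
    push Not at hne
    have : LocallyOfFiniteType (Aff K n).hom := inferInstance
    have hJ : JacobsonSpace (Aff K n).left := LocallyOfFiniteType.jacobsonSpace (Aff K n).hom
    obtain ⟨z, hz, hzc⟩ := @nonempty_inter_closedPoints (Aff K n).left _ hJ
      ((y'.left ⁻¹' R)ᶜ) hne (hR.preimage y'.left.continuous).isClosed_compl.isLocallyClosed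
    obtain ⟨v, hv, rfl⟩ := exists_pt (k := k) K n z hzc
    let y'' := y' * (proj k K n ≫ v ≫ y')⁻¹
    have hvy : v ≫ y'' = 1 := by
      simp only [y'', MonObj.comp_mul, GrpObj.comp_inv]
      rw [reassoc_of% hv, mul_inv_cancel]
    have h1 : (y'.left ⁻¹' R).Nonempty := ⟨o.left (IsLocalRing.closedPoint K), by
      show (o ≫ y').left (IsLocalRing.closedPoint K) ∈ R
      rw [hoy]; exact honeR⟩
    have h2 : (y''.left ⁻¹' R).Nonempty := ⟨v.left (IsLocalRing.closedPoint K), by
      show (v ≫ y'').left (IsLocalRing.closedPoint K) ∈ R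
      rw [hvy]; exact honeR⟩
    have h12 := nonempty_preirreducible_inter (hR.preimage y'.left.continuous)
      (hR.preimage y''.left.continuous) h1 h2
    obtain ⟨w, ⟨hw1, hw2⟩, hwc⟩ := @nonempty_inter_closedPoints (Aff K n).left _ hJ _ h12
      ((hR.preimage y'.left.continuous).inter (hR.preimage y''.left.continuous)).isLocallyClosed
    obtain ⟨w', hw', rfl⟩ := exists_pt (k := k) K n w hwc
    obtain ⟨a, ha⟩ := hlift (w' ≫ y') hw1
    obtain ⟨b, hb⟩ := hlift (w' ≫ y'') hw2
    apply hz
    show (v ≫ y').left (IsLocalRing.closedPoint K) ∈ R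
    have : v ≫ y' = (b⁻¹ * a) ≫ e := by
      rw [MonObj.mul_comp, GrpObj.inv_comp, ha, hb]
      simp only [y'', MonObj.comp_mul, GrpObj.comp_inv]
      rw [reassoc_of% hw']
      group
    rw [this]
    exact hone _
  have hsub : Set.range y'.left ⊆ Set.range e.left := by
    rintro _ ⟨z, rfl⟩
    exact huniv z
  obtain ⟨y₀, hy₀⟩ : ∃ y₀ : affK k K n ⟶ G0, y₀ ≫ e = y' :=
    ⟨Over.homMk (IsOpenImmersion.lift e.left y'.left hsub)
      (by rw [← Over.w e, IsOpenImmersion.lift_fac_assoc, Over.w y']),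
      Over.OverMorphism.ext (IsOpenImmersion.lift_fac _ _ _)⟩
  have : Mono e := Over.mono_of_mono_left e
  have ho₀ : o ≫ y₀ = 1 := by rw [← cancel_mono e, Category.assoc, hy₀, hoy, MonObj.one_comp]
  have hq : y₀ ≫ q = 1 := by
    rw [abVar_const K n (y₀ ≫ q), reassoc_of% ho₀, MonObj.one_comp, MonObj.comp_one]
  obtain ⟨t, ht, -⟩ := hker.exists_lift y₀ (toUnit _) (by rw [hq, Hom.one_def])
  have : y₀ = 1 := by
    rw [← ht, hT t, Category.assoc, Category.assoc, ht, ho₀, MonObj.comp_one]
  rw [← hy₀, this, MonObj.one_comp]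

end Groth.AbvarAlb

namespace Groth.AbvarAlb

variable {k : Type u} [Field k] [PerfectField k]

open Groth.GrpschAbsch.RationalToAbelian (Aff zeroPt)

/-- A morphism from `X × 𝔸ⁿ` to a group scheme with semiabelian neutral component factors through
the projection. -/
theorem factor_fst {X : Over (Spec (CommRingCat.of k))} [IsReduced X.left] [LocallyOfFiniteType X.hom]
    (n : ℕ) {G G0 T A : Over (Spec (CommRingCat.of k))} [GrpObj G] [GrpObj G0]
    (e : G0 ⟶ G) [IsMonHom e] [IsOpenImmersion e.left] [GrpObj T] (i : T ⟶ G0) [IsMonHom i]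
    (hT : Red.IsTorus T) [GrpObj A] [IsProper A.hom] [GeometricallyIntegral A.hom]
    (q : G0 ⟶ A) [IsMonHom q] (hker : AlgGrp.IsKernel i q) (φ : X ⊗ Aff k n ⟶ G) :
    φ = fst X (Aff k n) ≫ lift (𝟙 X) (toUnit X ≫ zeroPt k n) ≫ φ := by
  obtain ⟨r, L, _, _, hL⟩ := Groth.AlgGrp1.exists_split_field_of_isTorus hT
  let K := AlgebraicClosure L
  have : IsScalarTower k L K := inferInstance
  have := AlgGrp1.isSeparated_grpObj G
  have hX : GeometricallyReduced X.hom :=
    Groth.GrpschAbsch.FibreTranslate.geometricallyReduced_of_perfectField X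
  have : LocallyOfFiniteType (Aff k n).hom := inferInstance
  have : GeometricallyReduced (X ⊗ Aff k n).hom := Groth.AlgGrp1.geometricallyReduced_tensorObj X (Aff k n)
  have : LocallyOfFiniteType (X ⊗ Aff k n).hom :=
    inferInstanceAs (LocallyOfFiniteType (pullback.fst X.hom (Aff k n).hom ≫ X.hom))
  refine Groth.AlgGrp1.eq_of_sepClosed_points K _ _ fun t => ?_
  -- the map `𝔸ⁿ_K → 𝔸ⁿ_k`
  let m : affK k K n ⟶ Aff k n :=
    Over.homMk (Spec.map (CommRingCat.ofHom (MvPolynomial.map (algebraMap k K)))) (by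
      show Spec.map _ ≫ Spec.map _ = Spec.map _ ≫ Spec.map _
      rw [← Spec.map_comp, ← Spec.map_comp]
      congr 1
      exact CommRingCat.hom_ext (RingHom.ext fun c => MvPolynomial.map_C (σ := Fin n) (algebraMap k K) c))
  have hm : ∀ b : specAlg k K ⟶ Aff k n, ∃ v : Fin n → K, pt k K n v ≫ m = b := fun b => by
    let ψ := Spec.preimage (b.left : Spec (CommRingCat.of K) ⟶ Spec (CommRingCat.of (MvPolynomial (Fin n) k)))
    refine ⟨fun j => ψ.hom (MvPolynomial.X j), ?_⟩
    have hψ : Spec.map ψ = b.left := Spec.map_preimage _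
    have hC : ∀ c : k, ψ.hom (MvPolynomial.C (σ := Fin n) c) = algebraMap k K c := fun c => by
      have h : CommRingCat.ofHom (MvPolynomial.C : k →+* MvPolynomial (Fin n) k) ≫ ψ =
          CommRingCat.ofHom (algebraMap k K) := Spec.map_injective (by
        rw [Spec.map_comp, hψ]; exact Over.w b)
      exact congr(($h).hom c)
    ext1
    rw [← hψ]
    show Spec.map _ ≫ Spec.map _ = _
    rw [← Spec.map_comp]
    congr 1
    refine CommRingCat.hom_ext (MvPolynomial.ringHom_ext (fun c => ?_) (fun j => ?_))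
    · show MvPolynomial.eval₂Hom (RingHom.id K) _ (MvPolynomial.map (algebraMap k K) (MvPolynomial.C c)) = _
      rw [MvPolynomial.map_C, MvPolynomial.eval₂Hom_C, hC]; rfl
    · show MvPolynomial.eval₂Hom (RingHom.id K) _ (MvPolynomial.map (algebraMap k K) (MvPolynomial.X j)) = _
      rw [MvPolynomial.map_X, MvPolynomial.eval₂Hom_X']
  obtain ⟨v, hv⟩ := hm (t ≫ snd X (Aff k n))
  let y := lift (proj k K n ≫ t ≫ fst X (Aff k n)) m ≫ φ
  have hy := semiabelian_const K n e i q hker (torus_const K n L hL) y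
  have hpt : ∀ w : Fin n → K, pt k K n w ≫ y = lift (t ≫ fst X (Aff k n)) (pt k K n w ≫ m) ≫ φ :=
    fun w => by
      simp only [y]
      rw [comp_lift_assoc, reassoc_of% (pt_proj (k := k) K n w)]
  have hconst : pt k K n v ≫ y = pt k K n 0 ≫ y := by
    conv_lhs => rw [hy, reassoc_of% (pt_proj (k := k) K n v)]
  have h0 : pt k K n 0 ≫ m = toUnit (specAlg k K) ≫ zeroPt k n := by
    refine Groth.GrpschAbsch.RationalToAbelian.hom_ext fun j => ?_
    rw [Groth.GrpschAbsch.RationalToAbelian.cdF_comp (toUnit (specAlg k K)) (zeroPt k n),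
      zeroPt, Groth.GrpschAbsch.RationalToAbelian.cdF_aff, map_zero]
    show ((Spec.map (CommRingCat.ofHom (MvPolynomial.eval₂Hom (RingHom.id K) (0 : Fin n → K))) ≫
      Spec.map (CommRingCat.ofHom (MvPolynomial.map (algebraMap k K)))).appTop)
      ((Scheme.ΓSpecIso (CommRingCat.of (MvPolynomial (Fin n) k))).inv (MvPolynomial.X j)) = 0
    rw [← Spec.map_comp]
    have h := congr(($(Scheme.ΓSpecIso_inv_naturality
      (CommRingCat.ofHom (MvPolynomial.map (algebraMap k K)) ≫
        CommRingCat.ofHom (MvPolynomial.eval₂Hom (RingHom.id K) (0 : Fin n → K))))).hom (MvPolynomial.X j))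
    refine Eq.trans h.symm ?_
    show (Scheme.ΓSpecIso (CommRingCat.of K)).inv
      (MvPolynomial.eval₂Hom (RingHom.id K) 0 (MvPolynomial.map (algebraMap k K) (MvPolynomial.X j))) = 0
    rw [MvPolynomial.map_X, MvPolynomial.eval₂Hom_X']
    exact map_zero _
  rw [hpt, hpt, hv, h0] at hconst
  conv_lhs => rw [show t = lift (t ≫ fst X (Aff k n)) (t ≫ snd X (Aff k n)) by ext <;> simp]
  rw [hconst, ← Category.assoc t, comp_lift_assoc, Category.comp_id, ← Category.assoc _ (toUnit X),
    toUnit_unique ((t ≫ fst X (Aff k n)) ≫ toUnit X) (toUnit _)]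

end Groth.AbvarAlb
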