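import Groth.Agent.AlgGrp1.GenSubgroup
import Groth.Agent.GrpschAbsch.FieldComp
import Groth.Agent.GrpschSep.Fibre
import Groth.Agent.Abvar.AlgClosedAux
import Groth.Agent.AbvarAlb.MaxAbelian

/-!
# The abelian variety generated by a proper integral variety in a group scheme
-/

set_option autoImplicit false
universe u

open CategoryTheory Limits MonoidalCategory CartesianMonoidalCategory MonObj GrpObj AlgebraicGeometry
  TopologicalSpace
open Groth.AlgGrp1 (powObj powHom rpt)

namespace Groth.AbvarAlb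

variable {k : Type u} [Field k]

local notation "pt" => 𝟙_ (Over (Spec (CommRingCat.of k)))

/-- A connected group scheme locally of finite type over a field is quasi-compact. -/
theorem quasiCompact_of_connected (G : Over (Spec (CommRingCat.of k))) [GrpObj G]
    [LocallyOfFiniteType G.hom] [ConnectedSpace G.left] : QuasiCompact G.hom := by
  refine Groth.GrpschSep.quasiCompact_of_connected_fibres (fun s => inferInstance) fun s => ?_
  have h : G.hom ⁻¹' {s} = Set.univ := Set.eq_univ_of_forall fun x => Subsingleton.elim _ _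
  exact ((G.hom.fiberHomeo s).trans ((Homeomorph.setCongr h).trans (Homeomorph.Set.univ _))).symm.surjective.connectedSpace
    ((G.hom.fiberHomeo s).trans ((Homeomorph.setCongr h).trans (Homeomorph.Set.univ _))).symm.continuous

variable [IsAlgClosed k]

theorem geometricallyIntegral_of_isIntegral (X : Over (Spec (CommRingCat.of k))) [IsIntegral X.left]
    [LocallyOfFiniteType X.hom] : GeometricallyIntegral X.hom := by
  have := Groth.Abvar.geometricallyReduced_of_isAlgClosed X
  have := Groth.GrpschAbsch.geometricallyIrreducible_of_isSepClosed X.hom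
  exact GeometricallyIntegral.of_geometricallyReduced_of_geometricallyIrreducible X.hom

variable {G : Over (Spec (CommRingCat.of k))} [GrpObj G] [LocallyOfFiniteType G.hom] [QuasiCompact G.hom]

/-- The abelian subvariety generated by the differences of the points of a proper integral variety. -/
theorem exists_generated {X : Over (Spec (CommRingCat.of k))} [IsIntegral X.left] [IsProper X.hom]
    (φ : X ⟶ G) :
    ∃ S : AbSub G, (∀ a b : pt ⟶ X, ∃ s : pt ⟶ S.M, s ≫ S.i = (a ≫ φ) * (b ≫ φ)⁻¹) ∧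
      ∀ s : pt ⟶ S.M, s ≫ S.i ∈
        Subgroup.closure (Set.range fun ab : (pt ⟶ X) × (pt ⟶ X) => (ab.1 ≫ φ) * (ab.2 ≫ φ)⁻¹) := by
  classical
  have := AlgGrp1.isSeparated_grpObj G
  have := AlgGrp1.isLocallyNoetherian_left G
  have : GeometricallyIntegral X.hom := geometricallyIntegral_of_isIntegral X
  have := AlgGrp1.isLocallyNoetherian_left X
  have : LocallyOfFinitePresentation X.hom := inferInstance
  have : CompactSpace X.left := QuasiCompact.compactSpace_of_compactSpace X.hom
  have : AlgebraicGeometry.IsNoetherian X.left := ⟨⟩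
  -- the smooth locus
  let U := X.hom.smoothLocus
  obtain ⟨x₀, hx₀⟩ : (U : Set X.left).Nonempty :=
    ⟨genericPoint X.left, X.hom.genericPoint_mem_smoothLocus_of_perfectField⟩
  let Uo : Over (Spec (CommRingCat.of k)) := Over.mk (U.ι ≫ X.hom)
  let j : Uo ⟶ X := Over.homMk U.ι rfl
  have hUsm : Smooth Uo.hom := by
    show Smooth (U.ι ≫ X.hom)
    refine Scheme.Hom.smoothLocus_eq_top_iff.mp ?_
    rw [← Scheme.Hom.preimage_smoothLocus_eq]
    exact Scheme.Opens.ι_preimage_self U
  have : Nonempty U.toScheme := ⟨⟨x₀, hx₀⟩⟩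
  have : IsIntegral Uo.left := inferInstanceAs (IsIntegral U.toScheme)
  have : QuasiCompact Uo.hom := inferInstanceAs (QuasiCompact (U.ι ≫ X.hom))
  have : LocallyOfFiniteType Uo.hom := inferInstance
  have : GeometricallyIrreducible Uo.hom := Groth.GrpschAbsch.geometricallyIrreducible_of_isSepClosed Uo.hom
  let Q := Uo ⊗ Uo
  have : Smooth Q.hom := inferInstanceAs (Smooth (pullback.fst Uo.hom Uo.hom ≫ Uo.hom))
  have : QuasiCompact Q.hom := inferInstanceAs (QuasiCompact (pullback.fst Uo.hom Uo.hom ≫ Uo.hom))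
  have : GeometricallyIrreducible Q.hom :=
    GeometricallyIrreducible.comp (pullback.fst Uo.hom Uo.hom) Uo.hom
  let F : X ⊗ X ⟶ G := (fst X X ≫ φ) * (snd X X ≫ φ)⁻¹
  have hF : ∀ a b : pt ⟶ X, lift a b ≫ F = (a ≫ φ) * (b ≫ φ)⁻¹ := fun a b => by
    simp [F, MonObj.comp_mul, GrpObj.comp_inv]
  let f : Q ⟶ G := (j ⊗ₘ j) ≫ F
  have hf : ∀ a b : pt ⟶ Uo, lift a b ≫ f = ((a ≫ j) ≫ φ) * ((b ≫ j) ≫ φ)⁻¹ := fun a b => by
    rw [lift_map_assoc, hF]
  have hQ : ∀ q : pt ⟶ Q, q = lift (q ≫ fst Uo Uo) (q ≫ snd Uo Uo) := fun q => by ext <;> simp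
  have : LocallyOfFiniteType Uo.hom := inferInstance
  have := LocallyOfFiniteType.jacobsonSpace Uo.hom
  obtain ⟨p, -, hpc⟩ := nonempty_inter_closedPoints (Z := (Set.univ : Set Uo.left))
    Set.univ_nonempty isOpen_univ.isLocallyClosed
  obtain ⟨a₀, -⟩ := AlgGrp1.exists_rpt hpc
  obtain ⟨D, _, c, hc, hcc, hDs, hDc, hDpts⟩ := AlgGrp1.exists_generated_subgroup f
    ⟨lift a₀ a₀, by rw [hf, mul_inv_cancel]⟩
    (fun q => ⟨lift (q ≫ snd Uo Uo) (q ≫ fst Uo Uo), by
      conv_rhs => rw [hQ q]
      rw [hf, hf, _root_.mul_inv_rev, _root_.inv_inv]⟩)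
  let Γ := Subgroup.closure (Set.range fun ab : (pt ⟶ X) × (pt ⟶ X) => (ab.1 ≫ φ) * (ab.2 ≫ φ)⁻¹)
  have hDΓ : ∀ d : pt ⟶ D, d ≫ c ∈ Γ := by
    intro d
    have h := (Set.ext_iff.mp hDpts (d ≫ c)).mp ⟨d, rfl⟩
    refine (Subgroup.closure_le Γ).mpr ?_ h
    rintro _ ⟨q, rfl⟩
    show q ≫ f ∈ Γ
    rw [hQ q, hf]
    exact Subgroup.subset_closure ⟨(_, _), rfl⟩
  -- the closed set contains all differences
  have : LocallyOfFiniteType (X ⊗ X).hom :=
    inferInstanceAs (LocallyOfFiniteType (pullback.fst X.hom X.hom ≫ X.hom))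
  have := geometricallyIntegral_tensor X X
  have := Groth.Abvar.isIntegral_left (X ⊗ X)
  have := isProper_tensor X X
  let R : Set G.left := Set.range c.left
  have hR : IsClosed R := c.left.isClosedEmbedding.isClosed_range
  have hsub : Set.range F.left ⊆ R := by
    let O : Set (X ⊗ X).left := (fst X X).left ⁻¹' U ∩ (snd X X).left ⁻¹' U
    have hO : IsOpen O := (U.2.preimage (fst X X).left.continuous).inter (U.2.preimage (snd X X).left.continuous)
    have hlift : ∀ x : pt ⟶ X, rpt x ∈ (U : Set X.left) → ∃ x' : pt ⟶ Uo, x' ≫ j = x := fun x hx => by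
      refine AlgGrp1.exists_rpt_lift j x ?_
      rw [show Set.range j.left = (U : Set X.left) from U.range_ι]
      exact hx
    have h1 : O ⊆ F.left ⁻¹' R := by
      refine AlgGrp1.subset_of_rpt hO.isLocallyClosed (hR.preimage F.left.continuous) fun x hx => ?_
      obtain ⟨a, ha⟩ := hlift (x ≫ fst X X) hx.1
      obtain ⟨b, hb⟩ := hlift (x ≫ snd X X) hx.2
      have hmem : x ≫ F ∈ Set.range fun d : pt ⟶ D => d ≫ c := by
        rw [hDpts]
        refine Subgroup.subset_closure ⟨lift a b, ?_⟩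
        show lift a b ≫ f = x ≫ F
        rw [hf, ha, hb, ← hF]
        congr 1
        ext <;> simp
      obtain ⟨d, hd⟩ := hmem
      have hd' : d ≫ c = x ≫ F := hd
      exact ⟨rpt d, congr(($hd').left (IsLocalRing.closedPoint k))⟩
    have hne : O.Nonempty := by
      refine ⟨rpt (lift (a₀ ≫ j) (a₀ ≫ j)), ?_, ?_⟩
      · show (lift (a₀ ≫ j) (a₀ ≫ j) ≫ fst X X).left _ ∈ (U : Set X.left)
        rw [lift_fst]
        exact U.range_ι.le ⟨_, rfl⟩
      · show (lift (a₀ ≫ j) (a₀ ≫ j) ≫ snd X X).left _ ∈ (U : Set X.left)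
        rw [lift_snd]
        exact U.range_ι.le ⟨_, rfl⟩
    have h2 : (F.left ⁻¹' R) = Set.univ := Set.eq_univ_of_univ_subset
      ((hO.dense hne).closure_eq.symm.le.trans ((hR.preimage F.left.continuous).closure_subset_iff.mpr h1))
    rintro _ ⟨z, rfl⟩
    exact h2.ge (Set.mem_univ z)
  obtain ⟨g, hg⟩ := AlgGrp1.exists_factor_of_range_subset c F hsub
  -- properness: the target is the image of a proper power
  let q₁ : pt ⟶ X ⊗ X := lift (a₀ ≫ j) (a₀ ≫ j)
  have hq₁ : q₁ ≫ g = 1 := by
    have : Mono c := Over.mono_of_mono_left c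
    rw [← cancel_mono c, Category.assoc, hg, hF, mul_inv_cancel, MonObj.one_comp]
  have hinv : ∀ q : pt ⟶ X ⊗ X, ∃ q' : pt ⟶ X ⊗ X, q' ≫ g = (q ≫ g)⁻¹ := fun q => by
    refine ⟨lift (q ≫ snd X X) (q ≫ fst X X), ?_⟩
    have : Mono c := Over.mono_of_mono_left c
    rw [← cancel_mono c, Category.assoc, hg, GrpObj.inv_comp, Category.assoc, hg, hF,
      show q ≫ F = lift (q ≫ fst X X) (q ≫ snd X X) ≫ F by congr 1; ext <;> simp, hF, _root_.mul_inv_rev, _root_.inv_inv]
  have hgen : ∀ d : pt ⟶ D, ∃ n, ∃ t : pt ⟶ powObj (X ⊗ X) n, t ≫ powHom g n = d := by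
    intro d
    refine AlgGrp1.powHom_gen g q₁ hq₁ hinv d ?_
    have hmap : d ≫ c ∈ (Subgroup.closure (Set.range fun q : pt ⟶ X ⊗ X => q ≫ g)).map
        (MonoidHom.mk' (fun e : pt ⟶ D => e ≫ c) fun a b => MonObj.mul_comp a b c) := by
      rw [MonoidHom.map_closure]
      refine Subgroup.closure_mono ?_ (hDΓ d)
      rintro _ ⟨⟨a, b⟩, rfl⟩
      exact ⟨lift a b ≫ g, ⟨_, rfl⟩, by
        show (lift a b ≫ g) ≫ c = _
        rw [Category.assoc, hg, hF]⟩
    obtain ⟨e, he, hee⟩ := hmap
    have : Mono c := Over.mono_of_mono_left c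
    rwa [← show e = d from (cancel_mono c).mp hee]
  have hP : ∀ n, IsProper (powObj (X ⊗ X) n).hom ∧ IrreducibleSpace (powObj (X ⊗ X) n).left := by
    intro n
    induction n with
    | zero =>
      exact ⟨inferInstanceAs (IsProper (𝟙 _)), inferInstanceAs (IrreducibleSpace ↥(Spec (CommRingCat.of k)))⟩
    | succ n ih =>
      obtain ⟨_, _⟩ := ih
      exact ⟨isProper_tensor _ _, inferInstanceAs (IrreducibleSpace ↥(pullback (X ⊗ X).hom (powObj (X ⊗ X) n).hom))⟩
  have : LocallyOfFiniteType D.hom := inferInstance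
  have := AlgGrp1.isSeparated_grpObj D
  let C : ℕ → Set D.left := fun n => Set.range (powHom g n).left
  have hCcl : ∀ n, IsClosed (C n) := fun n => by
    have := (hP n).1
    have : IsProper ((powHom g n).left ≫ D.hom) := by rw [Over.w]; infer_instance
    have : IsProper (powHom g n).left := IsProper.of_comp _ D.hom
    exact (powHom g n).left.isClosedMap.isClosed_range
  have hCirr : ∀ n, IsIrreducible (C n) := fun n => by
    have := (hP n).2
    show IsIrreducible (Set.range (powHom g n).left)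
    rw [← Set.image_univ]
    exact (IrreducibleSpace.isIrreducible_univ _).image _ (powHom g n).left.continuous.continuousOn
  have hmono : ∀ n, C n ⊆ C (n + 1) := fun n => by
    rintro _ ⟨z, rfl⟩
    refine ⟨(AlgGrp1.powCons (toUnit (powObj (X ⊗ X) n) ≫ q₁) (𝟙 (powObj (X ⊗ X) n))).left z, ?_⟩
    have e : AlgGrp1.powCons (toUnit (powObj (X ⊗ X) n) ≫ q₁) (𝟙 (powObj (X ⊗ X) n)) ≫ powHom g (n + 1) =
        powHom g n := by
      refine (AlgGrp1.powCons_powHom g (toUnit _ ≫ q₁) (𝟙 _)).trans ?_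
      rw [Category.assoc, hq₁, MonObj.comp_one, _root_.one_mul, Category.id_comp]
    exact congr(($e).left z)
  let gp : ℕ → D.left := fun n => (hCirr n).genericPoint
  have hgp : ∀ n, closure {gp n} = C n := fun n => by
    have := (hCirr n).isGenericPoint_genericPoint_closure.def
    rwa [(hCcl n).closure_eq] at this
  have := AlgGrp1.isLocallyNoetherian_left D
  have hfin : ∀ n, Order.coheight (gp n) < ⊤ := fun n => by
    have hfin := ringKrullDim_lt_top (R := D.left.presheaf.stalk (gp n))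
    rw [ringKrullDim_stalk_eq_coheight (gp n)] at hfin
    exact WithBot.coe_lt_coe.mp hfin
  obtain ⟨_, ⟨N, rfl⟩, hN⟩ := wellFounded_lt.has_min (Set.range fun n => Order.coheight (gp n)) ⟨_, 0, rfl⟩
  have hmax : ∀ n, C n ⊆ C N := by
    intro n
    refine (monotone_nat_of_le_succ hmono (Nat.le_add_left n N)).trans ?_
    have hsp : gp (N + n) ⤳ gp N := by
      rw [specializes_iff_mem_closure, hgp]
      exact monotone_nat_of_le_succ hmono (Nat.le_add_right N n) (hgp N ▸ subset_closure rfl)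
    have hsp' : gp N ⤳ gp (N + n) := by
      by_contra hne
      exact hN _ ⟨N + n, rfl⟩ (Order.coheight_strictAnti (lt_of_le_not_ge hsp hne) (hfin _))
    rw [specializes_iff_mem_closure, hgp] at hsp'
    rw [← hgp (N + n)]
    exact closure_minimal (Set.singleton_subset_iff.2 hsp') (hCcl N)
  have hsurj : Surjective (powHom g N).left := ⟨fun z => by
    have h : (Set.univ : Set D.left) ⊆ C N := AlgGrp1.subset_of_rpt isOpen_univ.isLocallyClosed (hCcl N)
      fun x _ => by
        obtain ⟨n, t, rfl⟩ := hgen x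
        exact hmax n ⟨rpt t, rfl⟩
    exact h (Set.mem_univ z)⟩
  have := (hP N).1
  have : UniversallyClosed ((powHom g N).left ≫ D.hom) := by rw [Over.w]; infer_instance
  have : UniversallyClosed D.hom := UniversallyClosed.of_comp_surjective (powHom g N).left D.hom
  have hDp : IsProper D.hom := ⟨⟩
  have := AlgGrp1.geometricallyReduced_of_smooth_hom D
  exact ⟨⟨D, inferInstance, c, hc, hcc, hDp, geometricallyIntegral_of_connected D⟩,
    fun a b => ⟨lift a b ≫ g, by rw [Category.assoc, hg, hF]⟩, hDΓ⟩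

end Groth.AbvarAlb
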