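import Groth.Agent.AlgGrp1.MaxTorusSolv
import Groth.Agent.GrpschAbsch.NoTorus
import Groth.Agent.GaloisBrauer.H13.ConstTorsor
import Groth.Agent.Reductive2.HomTwConst
import Groth.Agent.SGA7.ExtLFT
import Groth.Agent.Misc15.MultH1.Const
import Groth.Agent.AbvarAlb.GenProper

/-!
# Auxiliary facts on large groups: the trivial torus, the constant group of integers
-/

set_option autoImplicit false
universe u

open CategoryTheory Limits MonoidalCategory CartesianMonoidalCategory MonObj GrpObj AlgebraicGeometry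
  TopologicalSpace
open Groth.SGA7 Groth.GaloisBrauer.H13

namespace Groth.AbvarAlb

variable {k : Type u} [Field k]

local notation "Sk" => Spec (CommRingCat.of k)
local notation "pt" => 𝟙_ (Over (Spec (CommRingCat.of k)))

theorem isTorus_unit : Red.IsTorus (𝟙_ (Over Sk)) := by
  have hiso : IsIso (CommRingCat.ofHom (algebraMap k (MonoidAlgebra k (Multiplicative (Fin 0 → ℤ))))) := by
    rw [ConcreteCategory.isIso_iff_bijective]
    refine ⟨fun a b hab ↦ by simpa using hab, fun z ↦ ?_⟩
    induction z using MonoidAlgebra.induction_on with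
    | of m =>
      refine ⟨1, ?_⟩
      rw [Subsingleton.elim m 1]
      exact map_one _
    | add a b ha hb =>
      obtain ⟨a, rfl⟩ := ha
      obtain ⟨b, rfl⟩ := hb
      exact ⟨a + b, map_add _ _ _⟩
    | smul r a ha =>
      obtain ⟨a, rfl⟩ := ha
      exact ⟨r * a, (map_mul _ _ _).trans (Algebra.smul_def _ _).symm⟩
  let P := CoactBr.sp k (MonoidAlgebra k (Multiplicative (Fin 0 → ℤ)))
  have : IsIso ((Over.forget _).map (toUnit P)) := by
    show IsIso (toUnit P).left
    have h : (toUnit P).left = P.hom := (Category.comp_id _).symm.trans (Over.w (toUnit P))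
    rw [h]
    exact inferInstanceAs (IsIso (Spec.map _))
  have : IsIso (toUnit P) := isIso_of_reflects_iso _ (Over.forget _)
  refine Groth.AlgGrp1.isTorus_of_diag_iso (asIso (toUnit P)) ?_
  exact ⟨toUnit_unique _ _, toUnit_unique _ _⟩

theorem isKernel_id (M : Over Sk) [GrpObj M] : AlgGrp.IsKernel η[M] (𝟙 M) := by
  show IsPullback η[M] (toUnit pt) (𝟙 M) η[M]
  rw [toUnit_unique (toUnit pt) (𝟙 _)]
  exact IsPullback.of_vert_isIso ⟨by simp⟩

/-- The range of an open subgroup scheme is closed. -/
theorem isClosed_range_of_subgroup {H G : Over Sk} [GrpObj H] [GrpObj G] [LocallyOfFiniteType H.hom]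
    [LocallyOfFiniteType G.hom] (e : H ⟶ G) [IsMonHom e] [IsOpenImmersion e.left] :
    IsClosed (Set.range e.left) :=
  have : IsClosedImmersion e.left := Groth.Agf.isClosedImmersion_of_subgroup e
  e.left.isClosedEmbedding.isClosed_range

/-- The integers as an index type. -/
abbrev Zt : Type u := Multiplicative (ULift.{u} ℤ)

variable (k) in
/-- The constant group scheme of the integers. -/
noncomputable abbrev constZ : Over Sk := TwC.const Sk (Zt.{u})

noncomputable instance : GrpObj (constZ k) := constGrp Sk (Zt.{u})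

theorem constZ_pt_mul (m n : Zt.{u}) :
    TwC.pt Sk (Zt.{u}) m * TwC.pt Sk (Zt.{u}) n = TwC.pt Sk (Zt.{u}) (m * n) := by
  refine ConstPoints.ext (funext fun t => ?_)
  refine (idx_mul Sk (Zt.{u}) _ _ t).trans ?_
  have hp : ∀ a : Zt.{u}, ConstPoints.idx (TwC.pt Sk (Zt.{u}) a) t = a := fun a => by
    have h := ConstPoints.idx_pt (S := Sk) (T := pt) a t
    rwa [toUnit_unique (toUnit pt) (𝟙 _), Category.id_comp] at h
  rw [hp, hp, hp]

theorem constZ_idx_one {T : Over Sk} (t : T.left) : ConstPoints.idx (1 : T ⟶ constZ k) t = 1 := by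
  have h := idx_mul Sk (Zt.{u}) (1 : T ⟶ constZ k) 1 t
  rw [_root_.one_mul] at h
  exact left_eq_mul.mp h

instance : IsCommMonObj (constZ k) := by
  refine ⟨?_⟩
  have h : ∀ {T : Over Sk} (a b : T ⟶ constZ k), a * b = b * a := fun a b =>
    ConstPoints.ext (funext fun t => by
      rw [idx_mul Sk (Zt.{u}) a b t, idx_mul Sk (Zt.{u}) b a t, mul_comm])
  have h2 := h (fst (constZ k) (constZ k)) (snd _ _)
  rw [Hom.mul_def, Hom.mul_def, lift_fst_snd, Category.id_comp] at h2
  refine Eq.trans ?_ h2.symm
  congr 1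

instance : IsSeparated (constZ k).hom := Groth.Reductive2.HomTwConst.isSeparated_const _ _

instance : LocallyOfFiniteType (constZ k).hom := Groth.SGA7.Ext.locallyOfFiniteType_const _

instance : IsOpenImmersion (η[constZ k]).left := by
  have h : (η[constZ k]) = TwC.pt Sk (Zt.{u}) 1 := by
    refine ConstPoints.ext (funext fun t => ?_)
    have h1 := constZ_idx_one (k := k) (T := pt) t
    have h2 := ConstPoints.idx_pt (S := Sk) (T := pt) (1 : Zt.{u}) t
    rw [toUnit_unique (toUnit pt) (𝟙 _), Category.id_comp] at h2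
    rw [Hom.one_def, toUnit_unique (toUnit pt) (𝟙 _), Category.id_comp] at h1
    rw [h1, h2]
  rw [h]
  exact inferInstanceAs (IsOpenImmersion (Sigma.ι (fun _ : Zt.{u} => Sk) 1))

/-- A homomorphism from a connected group to the constant group is trivial. -/
theorem hom_constZ_eq_one {H : Over Sk} [GrpObj H] [PreconnectedSpace H.left] (f : H ⟶ constZ k)
    [IsMonHom f] : f = 1 := by
  refine ConstPoints.ext (funext fun t => ?_)
  rw [constZ_idx_one]
  let t₀ := η[H].left (Classical.arbitrary Sk)
  rw [(ConstPoints.isLocallyConstant_idx f).apply_eq_of_preconnectedSpace t t₀]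
  show ConstPoints.idx (η[H] ≫ f) _ = 1
  rw [IsMonHom.one_hom]
  have h := constZ_idx_one (k := k) (T := pt) (Classical.arbitrary Sk)
  rwa [Hom.one_def, toUnit_unique (toUnit pt) (𝟙 _), Category.id_comp] at h

/-- The homomorphism from the integers determined by a rational point. -/
theorem exists_zpowHom {A : Over Sk} [GrpObj A] (c : pt ⟶ A) :
    ∃ m : constZ k ⟶ A, IsMonHom m ∧
      TwC.pt Sk (Zt.{u}) (Multiplicative.ofAdd (ULift.up 1)) ≫ m = c := by
  let cp : Zt.{u} → (pt ⟶ A) := fun n => c ^ (Multiplicative.toAdd n).down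
  let m : constZ k ⟶ A := Over.homMk (Sigma.desc fun n => (cp n).left) (Sigma.hom_ext _ _ fun n => by
    rw [Sigma.ι_desc_assoc, Over.w (cp n)]
    show _ = Sigma.ι (fun _ : Zt.{u} => Sk) n ≫ Sigma.desc fun _ => 𝟙 _
    rw [Sigma.ι_desc]
    rfl)
  have hpt : ∀ n, TwC.pt Sk (Zt.{u}) n ≫ m = cp n := fun n =>
    Over.OverMorphism.ext (Sigma.ι_desc (fun n => (cp n).left) n)
  refine ⟨m, Groth.AlgGrp1.isMonHom_of_points m fun T a b => ?_, ?_⟩
  · refine Groth.Misc15.MultH1.mul_comp_of_pt (C := Zt.{u}) (Iso.refl _) (fun x y => ?_) m (fun x y => ?_) a b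
    · simpa using constZ_pt_mul x y
    · simp only [Iso.refl_inv, Category.comp_id, hpt]
      exact zpow_add c _ _
  · rw [hpt]
    exact zpow_one c

end Groth.AbvarAlb
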