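import Groth.Agent.AbVarMul.Density
import Groth.Agent.AlgGrp1.GeomRedDense
import Groth.Agent.AlgGrp1.SmoothReduced
import Groth.Agent.GrpschAbsch.GrpEtale
import Groth.Agent.GrpschAbsch.BcPoint
import Groth.Agent.FlatmorThree.GeomIrred
import Groth.Agent.AlgSpBasic.OverField
import Groth.Agent.Abvar.AlgClosedAux
import Groth.Agent.Abvar.BaseChange
import Groth.Agent.AbvarAlb.MaxAbelian
import Groth.Prelude.Def_W4bk6langav68Chow

/-!
# Abelian subvarieties descend along primary extensions
-/

set_option autoImplicit false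
universe u

open CategoryTheory Limits MonoidalCategory CartesianMonoidalCategory MonObj GrpObj AlgebraicGeometry
  TopologicalSpace
open Groth.GrpschAbsch (bcPt bcPt_mul bcPt_pow bcPt_one bcPt_exists)
open Groth.NeronArea.FieldComponents (pp)

namespace Groth.AbvarAlb

variable {k K : Type u} [Field k] [Field K] [Algebra k K]

theorem exists_invertible_prime (k : Type u) [Field k] : ∃ l : ℕ, l.Prime ∧ (l : k) ≠ 0 := by
  by_cases h2 : ((2 : ℕ) : k) = 0
  · refine ⟨3, Nat.prime_three, fun h3 => one_ne_zero (α := k) ?_⟩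
    have : ((3 : ℕ) : k) = ((2 : ℕ) : k) + 1 := by norm_num
    rwa [h3, h2, zero_add, eq_comm] at this
  · exact ⟨2, Nat.prime_two, h2⟩

variable {A : Over (Spec (CommRingCat.of k))} [GrpObj A] [IsProper A.hom] [GeometricallyIntegral A.hom]

/-- Over the image of an étale torsion scheme the projection of a primary base change is injective. -/
theorem subsingleton_fibre_torsion (hprim : AbVar.IsPrimaryExt k K) {N : ℕ} (hN : (N : k) ≠ 0)
    (p : ↥(pullback η[A].left (𝟙 A ^ N : A ⟶ A).left)) :
    ((pullback.fst A.hom (AbVar.ext k K)).base ⁻¹'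
      {(pullback.snd η[A].left (𝟙 A ^ N : A ⟶ A).left).base p}).Subsingleton := by
  have : IsCommMonObj A := isCommMonObj_of_isProper_of_geometricallyIntegral A
  have het : Etale (𝟙 A ^ N : A ⟶ A).left := by
    rw [← zpow_natCast]
    exact GrpschAbsch.etale_zpow _ (by simpa using hN)
  set a := pullback.fst η[A].left (𝟙 A ^ N : A ⟶ A).left with ha
  set b := pullback.snd η[A].left (𝟙 A ^ N : A ⟶ A).left with hb
  have hba : b ≫ A.hom = a := by
    rw [hb, ha, ← Over.w (𝟙 A ^ N : A ⟶ A), ← pullback.condition_assoc, Over.w η[A]]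
    exact Category.comp_id _
  let a' : pullback η[A].left (𝟙 A ^ N : A ⟶ A).left ⟶ Spec (CommRingCat.of k) := a
  have : Etale a' := MorphismProperty.pullback_fst (P := @Etale) η[A].left _ het
  have : GeometricallyIrreducible (AbVar.ext k K) :=
    Groth.FlatmorThree.geometricallyIrreducible_specMap_of_sepClosedIn k K
      fun x hx => RingHom.mem_range.mp (hprim x hx)
  let E' := pullback a' (AbVar.ext k K)
  let h : E' ⟶ pullback A.hom (AbVar.ext k K) :=
    pullback.map a' (AbVar.ext k K) A.hom (AbVar.ext k K) b (𝟙 _) (𝟙 _)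
      ((Category.comp_id _).trans hba.symm) ((Category.comp_id _).trans (Category.id_comp _).symm)
  have hsq : IsPullback (pullback.fst a' (AbVar.ext k K)) h b (pullback.fst A.hom (AbVar.ext k K)) := by
    refine IsPullback.of_bot ?_
      (pullback.lift_fst _ _ _).symm (IsPullback.of_hasPullback A.hom (AbVar.ext k K))
    have e1 : h ≫ pullback.snd A.hom (AbVar.ext k K) = pullback.snd a' (AbVar.ext k K) :=
      (pullback.lift_snd _ _ _).trans (Category.comp_id _)
    rw [e1, hba]
    exact IsPullback.of_hasPullback a' (AbVar.ext k K)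
  have : DiscreteTopology ↥E' := Groth.AlgSpBasic.discreteTopology_of_etale (pullback.snd a' (AbVar.ext k K))
  have hirr : IrreducibleSpace ↥((pullback.fst a' (AbVar.ext k K)) ⁻¹' {p}) :=
    ((pullback.fst a' (AbVar.ext k K)).fiberHomeo p).irreducibleSpace_iff.mp inferInstance
  have hsub : ((pullback.fst a' (AbVar.ext k K)) ⁻¹' {p}).Subsingleton :=
    (isIrreducible_iff_singleton.mp (isIrreducible_iff_irreducibleSpace.mpr hirr)).elim
      fun x hx => hx ▸ Set.subsingleton_singleton
  refine (hsub.image h.base).anti fun z hz => ?_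
  obtain ⟨w, hw1, hw2⟩ := Scheme.Pullback.exists_preimage_pullback (f := b)
    (g := pullback.fst A.hom (AbVar.ext k K)) p z hz.symm
  refine ⟨hsq.isoPullback.inv w, ?_, ?_⟩
  · show pullback.fst a' (AbVar.ext k K) (hsq.isoPullback.inv w) = p
    rw [← Scheme.Hom.comp_apply, hsq.isoPullback_inv_fst]
    exact hw1
  · show h (hsq.isoPullback.inv w) = z
    rw [← Scheme.Hom.comp_apply, hsq.isoPullback_inv_snd]
    exact hw2

variable {B' : Over (Spec (CommRingCat.of K))} [GrpObj B'] [IsProper B'.hom] [GeometricallyIntegral B'.hom]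

omit [IsProper A.hom] [GeometricallyIntegral A.hom] in
/-- The images in `A` of torsion points of order prime to the characteristic are dense in the image
of an abelian subvariety of the base change. -/
theorem exists_dense_torsion {l : ℕ} [Fact l.Prime] (hl : (l : k) ≠ 0)
    (i' : B' ⟶ Red.bc (AbVar.ext k K) A) [IsMonHom i'] :
    ∃ D : Set B'.left, Dense D ∧ ∀ d ∈ D, ∃ (n : ℕ) (p : ↥(pullback η[A].left (𝟙 A ^ (l ^ n) : A ⟶ A).left)),
      (pullback.snd η[A].left (𝟙 A ^ (l ^ n) : A ⟶ A).left).base p =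
        (pullback.fst A.hom (AbVar.ext k K)).base (i'.left.base d) := by
  let L := AlgebraicClosure K
  have hlL : (l : L) ≠ 0 := fun h => hl ((algebraMap K L).injective.comp (algebraMap k K).injective (by
    simp only [Function.comp_apply, map_natCast, map_zero]; exact h))
  let R := Red.bc (AbVar.ext K L) B'
  have : IsProper R.hom := by dsimp [R]; infer_instance
  have : GeometricallyIntegral R.hom := by dsimp [R]; infer_instance
  have : IsCommMonObj R := isCommMonObj_of_isProper_of_geometricallyIntegral R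
  let π : R.left ⟶ B'.left := pullback.fst B'.hom (AbVar.ext K L)
  have : Surjective (AbVar.ext K L) := ⟨fun q => ⟨IsLocalRing.closedPoint L, Subsingleton.elim _ _⟩⟩
  have hπ : Surjective π := inferInstanceAs (Surjective (pullback.fst B'.hom (AbVar.ext K L)))
  have hd : Dense {q : R.left | ∃ (n : ℕ) (a : 𝟙_ _ ⟶ R), a ^ l ^ n = 1 ∧ pp a = q} :=
    dense_iff_closure_eq.2 (Groth.AbVarMul.closure_torsion_eq_univ (A := R) hlL)
  refine ⟨_, hπ.surj.denseRange.dense_image π.continuous hd, ?_⟩
  rintro _ ⟨_, ⟨n, a, ha, rfl⟩, rfl⟩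
  let x := bcPt (AbVar.ext K L) a ≫ i'
  have hx : x ^ (l ^ n) = 1 := by
    rw [← MonObj.pow_comp, ← bcPt_pow, ha, bcPt_one, MonObj.one_comp]
  let T : Over (Spec (CommRingCat.of k)) :=
    Over.mk (((𝟙_ (Over (Spec (CommRingCat.of L)))).hom ≫ AbVar.ext K L) ≫ AbVar.ext k K)
  let y : T ⟶ A := bcPt (AbVar.ext k K) x
  have hy : y ^ (l ^ n) = 1 := by rw [← bcPt_pow, hx, bcPt_one]
  have hy' : y ≫ (𝟙 A ^ (l ^ n) : A ⟶ A) = 1 := by rw [MonObj.comp_pow, Category.comp_id, hy]
  refine ⟨n, (pullback.lift (toUnit T).left y.left (congrArg Over.Hom.left hy').symm).base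
    (IsLocalRing.closedPoint L), ?_⟩
  rw [← Scheme.Hom.comp_apply, pullback.lift_snd]
  rfl

end Groth.AbvarAlb

namespace Groth.AbvarAlb

variable {k K : Type u} [Field k] [Field K] [Algebra k K]

theorem isPullback_bc_map {Z A : Over (Spec (CommRingCat.of k))} (c : Z ⟶ A) :
    IsPullback (pullback.fst Z.hom (AbVar.ext k K)) ((Over.pullback (AbVar.ext k K)).map c).left c.left
      (pullback.fst A.hom (AbVar.ext k K)) := by
  refine IsPullback.of_bot ?_ (pullback.lift_fst _ _ _).symm (IsPullback.of_hasPullback A.hom (AbVar.ext k K))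
  have e1 : ((Over.pullback (AbVar.ext k K)).map c).left ≫ pullback.snd A.hom (AbVar.ext k K) =
      pullback.snd Z.hom (AbVar.ext k K) := Over.w ((Over.pullback (AbVar.ext k K)).map c)
  rw [e1, Over.w c]
  exact IsPullback.of_hasPullback Z.hom (AbVar.ext k K)

variable {A : Over (Spec (CommRingCat.of k))} [GrpObj A] [IsProper A.hom] [GeometricallyIntegral A.hom]
  {B' : Over (Spec (CommRingCat.of K))} [GrpObj B'] [IsProper B'.hom] [GeometricallyIntegral B'.hom]

/-- Chow: an abelian subvariety of a primary base change of an abelian variety is defined over the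
ground field. -/
theorem exists_descend (hprim : AbVar.IsPrimaryExt k K) (i' : B' ⟶ Red.bc (AbVar.ext k K) A)
    [IsMonHom i'] [IsClosedImmersion i'.left] :
    ∃ (B : Over (Spec (CommRingCat.of k))) (_ : GrpObj B) (i : B ⟶ A), IsProper B.hom ∧
      GeometricallyIntegral B.hom ∧ IsMonHom i ∧ IsClosedImmersion i.left ∧
      ∃ e : Red.bc (AbVar.ext k K) B ≅ B', e.hom ≫ i' = (Over.pullback (AbVar.ext k K)).map i := by
  obtain ⟨l, hlp, hl⟩ := exists_invertible_prime k
  have := Fact.mk hlp
  have : IsCommMonObj A := isCommMonObj_of_isProper_of_geometricallyIntegral A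
  obtain ⟨D, hD, hDp⟩ := exists_dense_torsion hl i'
  let g : (Red.bc (AbVar.ext k K) A).left ⟶ A.left := pullback.fst A.hom (AbVar.ext k K)
  have : UniversallyOpen (AbVar.ext k K) := Groth.GrpdBasic.universallyOpen_of_field k (Iso.refl _) _
  have hgo : IsOpenMap g := by
    have : UniversallyOpen g := inferInstanceAs (UniversallyOpen (pullback.fst A.hom (AbVar.ext k K)))
    exact g.isOpenMap
  have : Surjective (AbVar.ext k K) := ⟨fun q => ⟨IsLocalRing.closedPoint K, Subsingleton.elim _ _⟩⟩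
  let D₀ : Set A.left := g '' (i'.left '' D)
  let C : Set A.left := closure D₀
  have hfib : g ⁻¹' D₀ ⊆ Set.range i'.left := by
    rintro z ⟨_, ⟨d, hd, rfl⟩, hz⟩
    obtain ⟨n, p, hp⟩ := hDp d hd
    have hN : ((l ^ n : ℕ) : k) ≠ 0 := by rw [Nat.cast_pow]; exact pow_ne_zero n hl
    have hs := subsingleton_fibre_torsion (A := A) hprim hN p
    have h1 : z = i'.left d := hs (show g z = _ from hz.symm.trans hp.symm) hp.symm
    exact ⟨d, h1.symm⟩
  have hC : g ⁻¹' C = Set.range i'.left := by
    refine subset_antisymm ?_ ?_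
    · rw [hgo.preimage_closure_eq_closure_preimage g.continuous]
      exact closure_minimal hfib i'.left.isClosedEmbedding.isClosed_range
    · rintro _ ⟨b, rfl⟩
      refine map_mem_closure g.continuous ?_ (t := D₀) fun z hz => ⟨z, hz, rfl⟩
      exact map_mem_closure i'.left.continuous (hD b) fun z hz => ⟨z, hz, rfl⟩
  obtain ⟨Z, c, hc, hred, hrange⟩ := Groth.Abvar.exists_reduced_on A ⟨C, isClosed_closure⟩
  have hrange' : Set.range c.left = C := hrange
  have hZp : IsProper Z.hom := by rw [← Over.w c]; infer_instance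
  -- geometric reducedness
  have hGR : GeometricallyReduced Z.hom := by
    let P : ℕ → Over (Spec (CommRingCat.of k)) := fun n =>
      Over.mk (pullback.fst η[A].left (c.left ≫ (𝟙 A ^ (l ^ n) : A ⟶ A).left) :
        _ ⟶ Spec (CommRingCat.of k))
    let q : ∀ n, P n ⟶ Z := fun n => Over.homMk
      (pullback.snd η[A].left (c.left ≫ (𝟙 A ^ (l ^ n) : A ⟶ A).left)) (by
        show pullback.snd _ _ ≫ Z.hom = pullback.fst η[A].left (c.left ≫ (𝟙 A ^ (l ^ n) : A ⟶ A).left)
        rw [show Z.hom = (c.left ≫ (𝟙 A ^ (l ^ n) : A ⟶ A).left) ≫ A.hom by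
          rw [Category.assoc, Over.w, Over.w], ← pullback.condition_assoc, Over.w η[A]]
        exact Category.comp_id _)
    refine Groth.AlgGrp1.geometricallyReduced_of_family Z P q (fun n => ?_) ?_
    · have het : Etale (𝟙 A ^ (l ^ n) : A ⟶ A).left := by
        rw [← zpow_natCast]
        exact GrpschAbsch.etale_zpow _ (by push_cast; exact pow_ne_zero n hl)
      have : FormallyUnramified c.left := inferInstance
      have : FormallyUnramified (𝟙 A ^ (l ^ n) : A ⟶ A).left := inferInstance
      have : FormallyUnramified (c.left ≫ (𝟙 A ^ (l ^ n) : A ⟶ A).left) :=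
        MorphismProperty.comp_mem @FormallyUnramified _ _ ‹_› ‹_›
      have : FormallyUnramified (P n).hom :=
        MorphismProperty.pullback_fst (P := @FormallyUnramified) η[A].left _ ‹_›
      have : LocallyOfFiniteType (P n).hom :=
        inferInstanceAs (LocallyOfFiniteType (pullback.fst η[A].left (c.left ≫ (𝟙 A ^ (l ^ n) : A ⟶ A).left)))
      have : LocallyOfFinitePresentation (P n).hom := inferInstance
      have : Etale (P n).hom := Etale.of_formallyUnramified_of_flat (P n).hom
      exact Groth.AlgGrp1.geometricallyReduced_of_smooth (P n).hom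
    · have hD₀ : D₀ ⊆ Set.range c.left := hrange'.symm ▸ subset_closure
      have hdense : Dense (c.left ⁻¹' D₀) := fun z => by
        rw [c.left.isClosedEmbedding.isEmbedding.toIsInducing.closure_eq_preimage_closure_image,
          Set.image_preimage_eq_of_subset hD₀]
        exact hrange'.le ⟨z, rfl⟩
      refine hdense.mono ?_
      rintro z ⟨_, ⟨d, hd, rfl⟩, hz⟩
      obtain ⟨n, p, hp⟩ := hDp d hd
      have hcond : η[A].left ((pullback.fst η[A].left (𝟙 A ^ (l ^ n) : A ⟶ A).left).base p) =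
          (c.left ≫ (𝟙 A ^ (l ^ n) : A ⟶ A).left) z := by
        rw [← Scheme.Hom.comp_apply, pullback.condition, Scheme.Hom.comp_apply, Scheme.Hom.comp_apply, ← hz]
        exact congrArg _ hp
      obtain ⟨w, -, hw⟩ := Scheme.Pullback.exists_preimage_pullback _ z hcond
      exact Set.mem_iUnion.mpr ⟨n, w, hw⟩
  have := AlgGrp1.isLocallyNoetherian_left A
  -- the base change
  have sq := isPullback_bc_map (K := K) c
  let cK := (Over.pullback (AbVar.ext k K)).map c
  have hcK : IsClosedImmersion cK.left := MorphismProperty.of_isPullback sq hc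
  have hcKr : Set.range cK.left = Set.range i'.left := by
    rw [← hC, ← hrange']
    refine subset_antisymm ?_ fun z ⟨w, hw⟩ => ?_
    · rintro _ ⟨w, rfl⟩
      exact ⟨(pullback.fst Z.hom (AbVar.ext k K)).base w, congr(($(sq.w)).base w)⟩
    · obtain ⟨v, -, hv⟩ := Scheme.Pullback.exists_preimage_pullback (f := c.left) (g := g) w z hw
      refine ⟨sq.isoPullback.inv v, ?_⟩
      rw [← Scheme.Hom.comp_apply, sq.isoPullback_inv_snd]
      exact hv
  have : IsReduced (Red.bc (AbVar.ext k K) Z).left :=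
    hGR.geometrically_isReduced _ _ _ (IsPullback.of_hasPullback Z.hom (AbVar.ext k K))
  have := Groth.Abvar.isIntegral_left B'
  obtain ⟨e₁, he₁⟩ := Groth.AlgGrp1.exists_factor_of_range_subset i' cK hcKr.le
  obtain ⟨e₂, he₂⟩ := Groth.AlgGrp1.exists_factor_of_range_subset cK i' hcKr.ge
  have : Mono i' := Over.mono_of_mono_left i'
  have : Mono cK := Over.mono_of_mono_left cK
  let e : Red.bc (AbVar.ext k K) Z ≅ B' :=
    ⟨e₁, e₂, by rw [← cancel_mono cK, Category.assoc, he₂, he₁, Category.id_comp],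
      by rw [← cancel_mono i', Category.assoc, he₁, he₂, Category.id_comp]⟩
  -- the group structure
  let TK : Over (Spec (CommRingCat.of k)) → Over (Spec (CommRingCat.of K)) := fun T =>
    Over.mk (pullback.snd T.hom (AbVar.ext k K))
  let proj : ∀ T, Over.mk ((TK T).hom ≫ AbVar.ext k K) ⟶ T := fun T =>
    Over.homMk (pullback.fst T.hom (AbVar.ext k K)) pullback.condition
  have hTK : ∀ T : Over (Spec (CommRingCat.of k)), GeometricallyReduced T.hom → IsReduced (TK T).left :=
    fun T hT => hT.geometrically_isReduced _ _ _ (IsPullback.of_hasPullback T.hom (AbVar.ext k K))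
  have hlift : ∀ (T : Over (Spec (CommRingCat.of k))) (a : T ⟶ Z), GeometricallyReduced T.hom →
      ∃ w : TK T ⟶ B', bcPt (AbVar.ext k K) (w ≫ i') = proj T ≫ a ≫ c := fun T a hT => by
    have := hTK T hT
    obtain ⟨x, hx⟩ := bcPt_exists (AbVar.ext k K) (proj T ≫ a ≫ c)
    obtain ⟨w, hw⟩ := Groth.AlgGrp1.exists_factor_of_range_subset i' x (by
      rw [← hC, ← hrange']
      rintro _ ⟨t, rfl⟩
      exact ⟨(proj T ≫ a).left t, (congr(($hx).left t)).symm⟩)
    exact ⟨w, by rw [hw, hx]⟩
  have hfac : ∀ (T : Over (Spec (CommRingCat.of k))) (u : T ⟶ A), GeometricallyReduced T.hom →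
      (∃ w : TK T ⟶ B', bcPt (AbVar.ext k K) (w ≫ i') = proj T ≫ u) → ∃ z : T ⟶ Z, z ≫ c = u := by
    intro T u hT ⟨w, hw⟩
    have : IsReduced T.left := hT.geometrically_isReduced (𝟙 _) (𝟙 _) T.hom IsPullback.of_id_fst
    refine Groth.AlgGrp1.exists_factor_of_range_subset c u ?_
    rintro _ ⟨t, rfl⟩
    obtain ⟨s, rfl⟩ := (pullback.fst T.hom (AbVar.ext k K)).surjective t
    rw [hrange']
    have h2 : g (i'.left (w.left s)) = u.left ((pullback.fst T.hom (AbVar.ext k K)) s) :=
      congr(($hw).left s)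
    rw [← h2]
    exact hC.ge ⟨_, rfl⟩
  have hU : GeometricallyReduced (𝟙_ (Over (Spec (CommRingCat.of k)))).hom := by
    have : Smooth (𝟙_ (Over (Spec (CommRingCat.of k)))).hom := inferInstanceAs (Smooth (𝟙 _))
    exact AlgGrp1.geometricallyReduced_of_smooth_hom _
  obtain ⟨o, ho⟩ := hfac _ 1 hU ⟨1, by rw [MonObj.one_comp, bcPt_one, MonObj.comp_one]⟩
  have hZZ : GeometricallyReduced (Z ⊗ Z).hom := AlgGrp1.geometricallyReduced_tensorObj Z Z
  obtain ⟨m, hm⟩ := hfac _ ((fst Z Z ≫ c) * (snd Z Z ≫ c)) hZZ (by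
    obtain ⟨w₁, h₁⟩ := hlift _ (fst Z Z) hZZ
    obtain ⟨w₂, h₂⟩ := hlift _ (snd Z Z) hZZ
    exact ⟨w₁ * w₂, by rw [MonObj.mul_comp, bcPt_mul, h₁, h₂, ← MonObj.comp_mul]⟩)
  obtain ⟨v, hv⟩ := hfac _ c⁻¹ hGR (by
    obtain ⟨w, hw⟩ := hlift _ (𝟙 Z) hGR
    refine ⟨w⁻¹, ?_⟩
    rw [GrpObj.comp_inv, ← Category.id_comp c, ← hw, GrpObj.inv_comp]
    refine eq_inv_of_mul_eq_one_left ?_
    rw [← bcPt_mul, inv_mul_cancel, bcPt_one])
  have : Mono c := Over.mono_of_mono_left c
  obtain ⟨grp, hmc⟩ := Groth.Agf.exists_grpObj_of_subgroup c (fun T y => ∃ z : T ⟶ Z, z ≫ c = y)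
    (fun _ _ => Iff.rfl)
    (fun T => ⟨toUnit T ≫ o, by rw [Category.assoc, ho, MonObj.comp_one]⟩)
    (fun T a b ⟨x, hx⟩ ⟨y, hy⟩ => ⟨lift x y ≫ m, by
      rw [Category.assoc, hm, MonObj.comp_mul, lift_fst_assoc, lift_snd_assoc, hx, hy]⟩)
    (fun T a ⟨x, hx⟩ => ⟨x ≫ v, by rw [Category.assoc, hv, GrpObj.comp_inv, hx]⟩)
  have : ConnectedSpace Z.left := by
    let f : B'.left ⟶ Z.left := e₂.left ≫ pullback.fst Z.hom (AbVar.ext k K)
    have hf : Surjective f := by
      have : Surjective e₂.left := ⟨fun z => ⟨e₁.left z, congr(($(e.hom_inv_id)).left z)⟩⟩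
      exact inferInstance
    exact hf.surj.connectedSpace f.continuous
  exact ⟨Z, grp, c, hZp, geometricallyIntegral_of_connected Z, hmc, hc, e, he₁⟩

end Groth.AbvarAlb
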