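import Groth.Agent.AbvarAlb.MaxAbelian
import Groth.Agent.AbvarAlb.FiniteDescend
import Groth.Agent.AlgGrpAb.Basic
import Groth.Agent.AbVarMul.KernelComp
import Groth.Agent.AbVarMul.RedSubgroup
import Groth.Agent.AbVarMul.KerTate
import Groth.Agent.AbVarMul.IsogenyPts
import Groth.Agent.AbVarMul.Isogeny
import Groth.Agent.GrpschAbsch.NeutralSubgroup
import Groth.Agent.GrpschAbsch.BcPoint
import Groth.Agent.GrpschAbsch.FibreFlat

/-!
# Stein factorisation of homomorphisms of abelian varieties
-/

set_option autoImplicit false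
universe u

open CategoryTheory Limits MonoidalCategory CartesianMonoidalCategory MonObj GrpObj AlgebraicGeometry
open Groth.AbVarMul

namespace Groth.AbvarAlb

variable {k : Type u} [Field k]

/-- A homomorphism of proper groups is finite if it has finitely many points in the kernel over an
algebraically closed extension. -/
theorem isFinite_of_finite_ker_bc {A B : Over (Spec (CommRingCat.of k))} [GrpObj A] [IsProper A.hom]
    [GeometricallyIntegral A.hom] [GrpObj B] [IsProper B.hom] (K : Type u) [Field K] [Algebra k K]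
    [IsAlgClosed K] (f : A ⟶ B) [IsMonHom f]
    (h : {x : SGA7.pt (K := k) K ⟶ A | x ≫ f = 1}.Finite) : IsFinite f.left := by
  let t : Spec (CommRingCat.of K) ⟶ Spec (CommRingCat.of k) :=
    Spec.map (CommRingCat.ofHom (algebraMap k K))
  letI : GrpObj ((bcF K).obj A) := Functor.grpObjObj
  letI : GrpObj ((bcF K).obj B) := Functor.grpObjObj
  have := isProper_bcF K A
  have := isProper_bcF K B
  have := geometricallyIntegral_bcF K A
  have := GrpschAbsch.isCommMonObj_of_isProper ((bcF K).obj A)
  have : IsMonHom ((bcF K).map f) := Groth.Abvar.isMonHom_map f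
  have hfin : IsFinite ((bcF K).map f).left := by
    refine isFinite_of_finite_ker _ ?_
    refine (h.image (bcPoints K A)).subset fun x hx => ⟨(bcPoints K A).symm x, ?_, MulEquiv.apply_symm_apply _ x⟩
    refine (bcPoints K B).injective ?_
    rw [bcPoints_comp, MulEquiv.apply_symm_apply, map_one]
    exact hx
  have : Surjective t := ⟨fun q => ⟨IsLocalRing.closedPoint _, Subsingleton.elim _ _⟩⟩
  have : Flat t := Flat.SpecMap_iff.mpr (RingHom.flat_algebraMap_iff.mpr inferInstance)
  exact MorphismProperty.of_isPullback_of_descendsAlong (P := @IsFinite)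
    (Q := @Surjective ⊓ @Flat ⊓ @QuasiCompact)
    (Groth.GrpschAbsch.FibreFlat.isPullback_map t f).flip
    ⟨⟨inferInstanceAs (Surjective (pullback.fst B.hom t)),
      inferInstanceAs (Flat (pullback.fst B.hom t))⟩,
      inferInstanceAs (QuasiCompact (pullback.fst B.hom t))⟩ hfin

variable {A B : Over (Spec (CommRingCat.of k))} [GrpObj A] [IsProper A.hom] [GeometricallyIntegral A.hom]
  [GrpObj B] [IsProper B.hom]

/-- **Stein factorisation**: a homomorphism from an abelian variety is the quotient by an abelian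
subvariety followed by a finite homomorphism. -/
theorem exists_stein (f : A ⟶ B) [IsMonHom f] :
    ∃ (C Q : Over (Spec (CommRingCat.of k))) (_ : GrpObj C) (_ : GrpObj Q) (i : C ⟶ A) (q : A ⟶ Q)
      (g : Q ⟶ B), IsProper C.hom ∧ GeometricallyIntegral C.hom ∧ IsProper Q.hom ∧
      GeometricallyIntegral Q.hom ∧ IsMonHom i ∧ IsMonHom q ∧ IsMonHom g ∧ IsClosedImmersion i.left ∧
      Flat q.left ∧ Surjective q.left ∧ AlgGrp.IsKernel i q ∧ IsFinite g.left ∧ q ≫ g = f := by
  have := GrpschAbsch.isCommMonObj_of_isProper A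
  obtain ⟨G, _, j, _, _, _, hker⟩ := AlgGrpAb.exists_kernel f
  have : IsProper G.hom := by rw [← Over.w j]; infer_instance
  obtain ⟨instY, hincl⟩ := GrpschAbsch.exists_grpObj_neutralObj G
  let Y := GrpschAbsch.neutralObj G
  let y : Y ⟶ A := GrpschAbsch.neutralIncl G ≫ j
  have : IsClosedImmersion y.left :=
    inferInstanceAs (IsClosedImmersion ((GrpschAbsch.neutralIncl G).left ≫ j.left))
  have : IsMonHom y := inferInstance
  have : GeometricallyIrreducible Y.hom := GrpschAbsch.geometricallyIrreducible_neutralObj G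
  have : IrreducibleSpace Y.left :=
    GeometricallyIrreducible.irreducibleSpace_of_subsingleton Y.hom
  obtain ⟨Z, c, _, hcs, _⟩ := Groth.AlgGrp1.exists_reduced Y
  have := geometricallyReduced_red A Y y Z c
  have : IsProper Y.hom := by rw [← Over.w y]; infer_instance
  have : IsProper Z.hom := by rw [← Over.w c]; infer_instance
  obtain ⟨_, hc⟩ := exists_grpObj_of_geometricallyReduced Y Z c
  have : ConnectedSpace Z.left :=
    (Homeomorph.connectedSpace_iff (Equiv.toHomeomorphOfContinuousClosed
      (Equiv.ofBijective _ ⟨c.left.isClosedEmbedding.injective, c.left.surjective⟩)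
      c.left.continuous c.left.isClosedEmbedding.isClosedMap)).2 inferInstance
  have := geometricallyIntegral_of_connected Z
  let i : Z ⟶ A := c ≫ y
  have : IsClosedImmersion i.left := inferInstanceAs (IsClosedImmersion (c.left ≫ y.left))
  have : IsMonHom i := inferInstance
  obtain ⟨Q, _, q, _, _, ⟨_, _, _⟩, _, _, hq⟩ := AlgGrpAb.exists_cokernel i
  have := AlgGrp1.isSeparated_grpObj Q
  have : IsProper (q.left ≫ Q.hom) := by rw [Over.w]; infer_instance
  have : IsProper q.left := IsProper.of_comp q.left Q.hom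
  have : UniversallyClosed Q.hom := UniversallyClosed.of_comp_surjective q.left Q.hom
  have hQp : IsProper Q.hom := ⟨⟩
  have := AlgGrp1.geometricallyReduced_of_flat_surjective q
  have hint := Abvar.isIntegral_left A
  have : ConnectedSpace Q.left := q.left.surjective.connectedSpace q.left.continuous
  have := geometricallyIntegral_of_connected Q
  have hyf : y ≫ f = 1 := by
    show (GrpschAbsch.neutralIncl G ≫ j) ≫ f = 1
    rw [Category.assoc, AlgGrp1.IsKernel.comp_eq_one hker, MonObj.comp_one]
  have hif : i ≫ f = 1 := by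
    show (c ≫ y) ≫ f = 1
    rw [Category.assoc, hyf, MonObj.comp_one]
  obtain ⟨g, hg, hqg⟩ := AlgGrpAb.exists_desc_hom q ⟨‹_›, ‹_›, ‹_›⟩ hq f hif
  refine ⟨Z, Q, inferInstance, inferInstance, i, q, g, inferInstance, inferInstance, hQp, inferInstance,
    inferInstance, inferInstance, hg, inferInstance, inferInstance, inferInstance, hq, ?_, hqg⟩
  -- finiteness of `g`
  have := GrpschAbsch.isCommMonObj_of_isProper Q
  let K := AlgebraicClosure k
  let t : Spec (CommRingCat.of K) ⟶ Spec (CommRingCat.of k) :=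
    Spec.map (CommRingCat.ofHom (algebraMap k K))
  letI : GrpObj ((bcF K).obj A) := Functor.grpObjObj
  letI : GrpObj ((bcF K).obj B) := Functor.grpObjObj
  have := isProper_bcF K A
  have := geometricallyIntegral_bcF K A
  have := isProper_bcF K B
  have := GrpschAbsch.isCommMonObj_of_isProper ((bcF K).obj A)
  have : IsMonHom ((bcF K).map f) := Groth.Abvar.isMonHom_map f
  obtain ⟨C', _, i', _, _, _, hC', _, hi'f, ⟨N, hN, hpow⟩, -⟩ := exists_kernel_component ((bcF K).map f)
  obtain ⟨n, hn⟩ := AlgGrp1.IsKernel.exists_lift hker (GrpschAbsch.bcPt t (G := A) i') (by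
    rw [← GrpschAbsch.bcPt_comp_map]
    exact (congrArg (GrpschAbsch.bcPt t (G := B)) hi'f).trans (GrpschAbsch.bcPt_one t))
  have : IrreducibleSpace C'.left := by
    have := Abvar.isIntegral_left C'
    infer_instance
  have : IrreducibleSpace ↥(Over.mk (C'.hom ≫ t)).left := ‹IrreducibleSpace C'.left›
  have hrange : Set.range n.left ⊆ connectedComponent (GrpschAbsch.unitPt G) := by
    refine (isPreconnected_range n.left.continuous).subset_connectedComponent
      ⟨(η[C'] : 𝟙_ _ ⟶ C').left (IsLocalRing.closedPoint K), ?_⟩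
    let T : Over (Spec (CommRingCat.of k)) := Over.mk ((𝟙_ (Over (Spec (CommRingCat.of K)))).hom ≫ t)
    let e : T ⟶ G := Over.homMk ((η[C'] : 𝟙_ _ ⟶ C').left ≫ n.left) (by
      rw [Category.assoc, Over.w n]
      show (η[C'] : 𝟙_ _ ⟶ C').left ≫ C'.hom ≫ t = _
      rw [← Category.assoc, Over.w]
      rfl)
    have : Mono j := Over.mono_of_mono_left j
    have he : e = 1 := by
      rw [← cancel_mono j, MonObj.one_comp]
      refine (?_ : e ≫ j = GrpschAbsch.bcPt t (G := A) (η[C'] ≫ i')).trans ?_
      · refine Over.OverMorphism.ext ?_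
        show ((η[C'] : 𝟙_ _ ⟶ C').left ≫ n.left) ≫ j.left = _
        rw [Category.assoc, ← Over.comp_left, hn]
        exact (Category.assoc _ _ _).symm
      · rw [IsMonHom.one_hom, MonObj.one_eq_one, GrpschAbsch.bcPt_one]
    show n.left ((η[C'] : 𝟙_ _ ⟶ C').left (IsLocalRing.closedPoint K)) = GrpschAbsch.unitPt G
    rw [← Scheme.Hom.comp_apply]
    exact (congrArg (fun w : T ⟶ G => w.left (IsLocalRing.closedPoint K)) he).trans
      (GrpschAbsch.one_comp_left_apply G _)
  obtain ⟨n', hn'⟩ := GrpschAbsch.exists_lift_neutralIncl G n hrange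
  refine isFinite_of_finite_ker_bc K g (Set.Finite.subset
    (s := {x : SGA7.pt (K := k) K ⟶ Q | x ≫ (𝟙 Q ^ N : Q ⟶ Q) = 1}) ?_ (fun x hx => ?_))
  · have : IsFinite (𝟙 Q ^ N : Q ⟶ Q).left := by
      rw [← zpow_natCast]; exact (isogeny_zpow (A := Q) (d := (N : ℤ)) (by omega)).1
    exact finite_ker_bc K (𝟙 Q ^ N : Q ⟶ Q)
  · obtain ⟨a, rfl⟩ := exists_comp_eq_bc K q x
    have ha : a ≫ f = 1 := by rw [← hqg, ← Category.assoc]; exact hx
    obtain ⟨z, hz⟩ := hpow (bcPoints K A a) (by
      rw [← bcPoints_comp, ha, map_one])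
    show (a ≫ q) ≫ (𝟙 Q ^ N : Q ⟶ Q) = 1
    rw [MonObj.comp_pow, Category.comp_id, ← AbVarMul.pow_comp' q a N]
    obtain ⟨z₂, hz₂⟩ : ∃ z₂ : SGA7.pt (K := k) K ⟶ Y, z₂ ≫ y = a ^ N := by
      refine ⟨Over.homMk (z.left ≫ n'.left) ?_, ?_⟩
      · rw [Category.assoc, Over.w n']
        show z.left ≫ C'.hom ≫ t = _
        rw [← Category.assoc, Over.w]
        rfl
      · rw [← (bcPoints K A).symm_apply_apply (a ^ N), map_pow, ← hz]
        refine Over.OverMorphism.ext ?_
        show (z.left ≫ n'.left) ≫ ((GrpschAbsch.neutralIncl G).left ≫ j.left) =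
          (z.left ≫ i'.left) ≫ pullback.fst A.hom t
        have h3 : n'.left ≫ (GrpschAbsch.neutralIncl G).left ≫ j.left = i'.left ≫ pullback.fst A.hom t := by
          have := congrArg Over.Hom.left hn
          rw [← hn'] at this
          simp only [Over.comp_left, Category.assoc] at this
          exact this
        simp only [Category.assoc]
        rw [h3]
    have : IsReduced (SGA7.pt (K := k) K).left := inferInstanceAs (IsReduced (Spec (CommRingCat.of K)))
    obtain ⟨z₃, hz₃⟩ := Groth.AlgGrp1.exists_factor_of_range_subset c z₂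
      (by rw [c.left.surjective.range_eq]; exact Set.subset_univ _)
    have : z₃ ≫ i = a ^ N := by rw [← Category.assoc, hz₃, hz₂]
    rw [← this, Category.assoc, AlgGrp1.IsKernel.comp_eq_one hq, MonObj.comp_one]

/-- A homomorphism from an abelian variety killed by a finite homomorphism is trivial. -/
theorem eq_one_of_finite {L : Type u} [Field L] {X Q Z : Over (Spec (CommRingCat.of L))}
    [GrpObj X] [IsProper X.hom] [GeometricallyIntegral X.hom] [GrpObj Q] [LocallyOfFiniteType Q.hom]
    [GrpObj Z] [IsSeparated Z.hom] (h : X ⟶ Q) [IsMonHom h] (g : Q ⟶ Z) [IsMonHom g] [IsFinite g.left]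
    (hh : h ≫ g = 1) : h = 1 := by
  obtain ⟨I, _, i, p, _, _, _, _, hpi, _, _⟩ := exists_image_of_proper h
  have := AlgGrp1.isReduced_left I
  have hint := Abvar.isIntegral_left I
  have : Flat p.left := Groth.GrpschAbsch.FibreFlat.flat_of_surjective_field p
  have : QuasiCompact p.left := by
    have : IsProper (p.left ≫ I.hom) := by rw [Over.w]; infer_instance
    have := IsProper.of_comp p.left I.hom
    infer_instance
  have := AbVarMul.epi_of_flat_surjective p
  have hig : i ≫ g = 1 := by
    rw [← cancel_epi p, ← Category.assoc, hpi, hh, MonObj.comp_one]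
  have : IsFinite ((toUnit I).left ≫ (η[Z] : 𝟙_ _ ⟶ Z).left) := by
    rw [show (toUnit I).left ≫ (η[Z] : 𝟙_ _ ⟶ Z).left = i.left ≫ g.left from (congrArg Over.Hom.left hig).symm]
    infer_instance
  have hηsep : IsSeparated (η[Z] : 𝟙_ _ ⟶ Z).left := by
    have : IsSeparated ((η[Z] : 𝟙_ _ ⟶ Z).left ≫ Z.hom) := by
      rw [Over.w]; exact inferInstanceAs (IsSeparated (𝟙 _))
    exact IsSeparated.of_comp _ Z.hom
  have : IsFinite I.hom := IsFinite.of_comp (toUnit I).left (η[Z] : 𝟙_ _ ⟶ Z).left
  have : DiscreteTopology I.left := discreteTopology_of_isFinite I.hom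
  have : Subsingleton I.left := PreconnectedSpace.trivial_of_discrete
  have : IsClosedImmersion (η[I] : 𝟙_ _ ⟶ I).left := by
    have : IsClosedImmersion ((η[I] : 𝟙_ _ ⟶ I).left ≫ I.hom) := by
      rw [Over.w]; exact inferInstanceAs (IsClosedImmersion (𝟙 _))
    exact IsClosedImmersion.of_comp _ I.hom
  have : IsReduced X.left := haveI := Abvar.isIntegral_left X; inferInstance
  obtain ⟨u, hu⟩ := AlgGrp1.exists_factor_of_range_subset (η[I] : 𝟙_ _ ⟶ I) p
    (fun y _ => ⟨IsLocalRing.closedPoint L, Subsingleton.elim _ _⟩)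
  rw [← hpi, ← hu, toUnit_unique u (toUnit X), Category.assoc, IsMonHom.one_hom]
  rfl


end Groth.AbvarAlb
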